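import Cfsg.Agent.HallHigman.TheoremB
import Cfsg.Agent.Coprime.Action

/-!
# A cubically unipotent element centralises the groups of coprime order it normalises
-/

set_option autoImplicit false
set_option linter.unusedSectionVars false

namespace CfsgLib.OrthNineTensor

open Module

/-- From characteristic five on, an element acting with `(X - 1) ^ 3 = 0` centralises every subgroup of order
prime to the characteristic that it normalises. -/
theorem commute_of_cube_zero {F : Type*} [Field F] {p : ℕ} [hp : Fact p.Prime] [CharP F p] (h5 : 5 ≤ p)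
    {W : Type*} [AddCommGroup W] [Module F W] [FiniteDimensional F W] {G : Type*} [Group G] [Finite G]
    (ρ : G →* Module.End F W) (hρ : Function.Injective ρ) {u : G} (hu : u ^ p = 1) (hcube : (ρ u - 1) ^ 3 = 0)
    {K : Subgroup G} (hK : ¬ p ∣ Nat.card K) (hn : ∀ x ∈ K, u * x * u⁻¹ ∈ K) : ∀ x ∈ K, u * x = x * u := by
  set A := Subgroup.zpowers u
  have hAK : A ≤ Subgroup.normalizer (K : Set G) :=
    Subgroup.zpowers_le.2 (Subgroup.mem_normalizer_fintype hn)
  have hAcop : (Nat.card A).Coprime (Nat.card K) := by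
    rw [Nat.card_zpowers]
    exact Nat.Coprime.coprime_dvd_left (orderOf_dvd_of_pow_eq_one hu) (hp.out.coprime_iff_not_dvd.2 hK)
  have hS : (Subgroup.centralizer ({u} : Set G)).subgroupOf K = ⊤ := by
    refine Subgroup.eq_top_of_le_card _ (Nat.le_of_dvd Nat.card_pos ?_)
    refine (Nat.factorization_le_iff_dvd Nat.card_pos.ne' Nat.card_pos.ne').mp fun q => ?_
    by_cases hq : q.Prime
    swap
    · simp [hq]
    have := Fact.mk hq
    obtain ⟨P, hP⟩ := CfsgLib.Coprime.exists_invariant_sylow hAK hAcop (Or.inl inferInstance) q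
    refine (hq.pow_dvd_iff_le_factorization Nat.card_pos.ne').mp ?_
    rw [← P.card_eq_multiplicity]
    refine Subgroup.card_dvd_of_le fun z hz => ?_
    rw [Subgroup.mem_subgroupOf, Subgroup.mem_centralizer_singleton_iff]
    set T := (P : Subgroup K).map K.subtype with hTdef
    have hzT : (z : G) ∈ T := ⟨z, hz, rfl⟩
    by_contra hne
    have hTq : IsPGroup q T := P.isPGroup'.map _
    have hpq : p ≠ q := by
      rintro rfl
      obtain ⟨e, he⟩ := IsPGroup.iff_card.1 P.isPGroup'
      rcases Nat.eq_zero_or_pos e with rfl | he0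
      · rw [pow_zero] at he
        have : Subsingleton (P : Subgroup K) := (Nat.card_eq_one_iff_unique.1 he).1
        have h1 : (z : K) = 1 := congrArg Subtype.val (Subsingleton.elim (⟨z, hz⟩ : (P : Subgroup K)) 1)
        exact hne (by rw [h1]; simp)
      · exact hK (((dvd_pow_self p he0.ne').trans he.symm.dvd).trans (Subgroup.card_subgroup_dvd_card _))
    obtain ⟨α, hα⟩ := HallHigman.exists_restrict_aut (MulAut.conj u) T fun x hx => by
      rw [MulAut.conj_apply]
      exact (Subgroup.mem_normalizer_iff.1 (hP (Subgroup.mem_zpowers u)) x).1 hx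
    have hα1 : ∀ x : T, ((α x : T) : G) = u * x * u⁻¹ := fun x => by
      have h1 := hα 1 x
      rwa [pow_one, pow_one, MulAut.conj_apply] at h1
    obtain ⟨d, Θ, hΘ⟩ := CfsgLib.ShultGross.exists_extend_scalars F W
    have : CharP (AlgebraicClosure F) p :=
      charP_of_injective_algebraMap (algebraMap F (AlgebraicClosure F)).injective p
    let ψ : G →* Module.End (AlgebraicClosure F) (Fin d → AlgebraicClosure F) := Θ.toMonoidHom.comp ρ
    have hψ : Function.Injective ψ := hΘ.comp hρ
    rcases HallHigman.minimal_degree (K := AlgebraicClosure F) hpq _ (Q := T)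
        (V := Fin d → AlgebraicClosure F) (m := 1) le_rfl le_rfl hTq α (ψ.comp T.subtype)
        (hψ.comp T.subtype_injective) (ψ u)
        (by rw [pow_one, ← map_pow, hu, map_one])
        (fun g => by
          show ψ u * ψ (g : G) = ψ ((α g : T) : G) * ψ u
          rw [← map_mul, ← map_mul, hα1, inv_mul_cancel_right])
        ⟨⟨z, hzT⟩, fun h => hne (by
          rw [Nat.sub_self, pow_zero, pow_one] at h
          have h1 := hα1 ⟨z, hzT⟩
          rw [h] at h1
          exact eq_mul_inv_iff_mul_eq.1 h1)⟩ 3
        (show (Θ (ρ u) - 1) ^ 3 = 0 by rw [← map_one Θ, ← map_sub, ← map_pow, hcube, map_zero]) with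
      h | ⟨n₀, e, h1, h2, -, -, -, h6⟩
    · rw [pow_one] at h
      omega
    · have hn0 : n₀ = 1 := by omega
      subst hn0
      rw [Nat.sub_self, pow_zero, pow_one, one_mul] at h6
      omega
  intro x hx
  have h1 : (⟨x, hx⟩ : K) ∈ (Subgroup.centralizer ({u} : Set G)).subgroupOf K := hS ▸ Subgroup.mem_top _
  exact (Subgroup.mem_centralizer_singleton_iff.1 (Subgroup.mem_subgroupOf.1 h1)).symm

end CfsgLib.OrthNineTensor
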