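import Cfsg.Agent.OrthNineTensor.Shape
import Cfsg.Agent.OrthNineTensor.Coprime
import Cfsg.Agent.TensorSympOrth.URoot
import Cfsg.Agent.Signalizer.Generation

/-!
# The centraliser of a half-turn of one factor lies in the stabiliser
-/

set_option autoImplicit false
set_option linter.unusedSectionVars false

namespace CfsgLib.OrthNineTensor

open Matrix Module CfsgLib.Spinor CfsgLib.OrthMax CfsgLib.TensorOrth CfsgLib.TensorSlice
open CfsgLib.TensorMax (Idx ten krG kron_mulVec_ten ten_add_left ten_add_right ten_smul_left ten_smul_right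
  ten_inj_left ten_inj_right)
open CfsgLib.TensorUnitary (ten_induction mat_ext_ten)
open scoped Kronecker

variable {F : Type*} [Field F] [Fintype F] {Q : QuadraticForm F (Idx 3 3 → F)}
  {B : LinearMap.BilinForm F (Fin 3 → F)} {c : F}

/-- Contraction with a vector in the first factor. -/
def evA (B : LinearMap.BilinForm F (Fin 3 → F)) (w : Fin 3 → F) : (Idx 3 3 → F) →ₗ[F] (Fin 3 → F) :=
  LinearMap.pi fun j => (B.flip w).comp (LinearMap.funLeft F F fun i => (i, j))

theorem evA_ten (w x y : Fin 3 → F) : evA B w (ten x y : Idx 3 3 → F) = B x w • y := by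
  funext j
  show B (fun i => ten x y (i, j)) w = _
  rw [show (fun i => ten x y (i, j)) = y j • x by funext i; exact mul_comm _ _, map_smul]
  simp [mul_comm]

theorem evA_decomp {γ z δ : Fin 3 → F} (H : Hyp B γ z δ) (v : Idx 3 3 → F) :
    v = ten δ (evA B γ v) + ten z ((B z z)⁻¹ • evA B z v) + ten γ (evA B δ v) := by
  induction v using ten_induction with
  | hadd v w hv hw =>
    rw [map_add, map_add, map_add, smul_add, ten_add_right, ten_add_right, ten_add_right]
    conv_lhs => rw [hv, hw]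
    abel
  | h0 => simp [CfsgLib.TensorSlice.ten_zero_right]
  | h x y =>
    simp only [evA_ten, smul_smul, ten_smul_right]
    conv_lhs => rw [H.expand x]
    simp only [ten_add_left, ten_smul_left, div_eq_inv_mul]

theorem Sq.eS_det {Q : QuadraticForm F (Idx 3 3 → F)} (h : Sq Q B c) {γ z δ : Fin 3 → F} (H : Hyp B γ z δ)
    (s : F) : (mt (H.eS s)).det = 1 := by
  have h2 := H.two
  rw [show s = s / 2 + s / 2 by field_simp; ring, ← H.eS_add, mt_mul, det_mul, h.det_iso]

/-- A unipotent isometry fixing a non-singular vector is trivial. -/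
theorem eq_one_of_fix_pow {p : ℕ} [Fact p.Prime] [CharP F p] (hB : Fac B 1) {A : isoG B} {k : Fin 3 → F}
    (hk : B k k ≠ 0) (hAk : mt A *ᵥ k = k) {j : ℕ} (hA : A ^ p ^ j = 1) : A = 1 := by
  have h2 := two_ne hB
  set D : Matrix (Fin 3) (Fin 3) F := mt A - 1 with hD
  have hDn : D ^ p ^ j = 0 := by
    rw [hD, sub_pow_char_pow_of_commute _ _ (Commute.one_right _), one_pow]
    have h1 : ∀ n, mt (A ^ n) = mt A ^ n := fun n => by
      induction n with
      | zero => rw [pow_zero, pow_zero, mt_one]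
      | succ n ih => rw [pow_succ, pow_succ, mt_mul, ih]
    rw [← h1, hA, mt_one, sub_self]
  by_contra hne
  have hD0 : D ≠ 0 := fun h0 => hne (mt_injective (sub_eq_zero.1 h0))
  classical
  have hex : ∃ n, D ^ n = 0 := ⟨_, hDn⟩
  obtain ⟨m, hm⟩ : ∃ m, Nat.find hex = m + 2 := by
    refine ⟨Nat.find hex - 2, ?_⟩
    have h0 : Nat.find hex ≠ 0 := fun h => by
      have := Nat.find_spec hex
      rw [h, pow_zero] at this
      exact one_ne_zero this
    have h1 : Nat.find hex ≠ 1 := fun h => by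
      have := Nat.find_spec hex
      rw [h, pow_one] at this
      exact hD0 this
    omega
  obtain ⟨x, hx⟩ : ∃ x, D ^ (m + 1) *ᵥ x ≠ 0 := by
    by_contra! hc
    exact Nat.find_min hex (m := m + 1) (by omega) (Matrix.ext_iff_mulVec.2 fun x => by rw [hc, zero_mulVec])
  set v := D ^ m *ᵥ x
  set w := D *ᵥ v with hw
  have hw0 : w ≠ 0 := by rwa [hw, mulVec_mulVec, ← pow_succ']
  have hDw : D *ᵥ w = 0 := by
    have e := Nat.find_spec hex
    rw [hm] at e
    rw [hw, mulVec_mulVec, mulVec_mulVec, ← pow_two, ← pow_add, add_comm 2 m, e, zero_mulVec]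
  have hAv : ∀ y, mt A *ᵥ y = y + D *ᵥ y := fun y => by rw [hD, sub_mulVec, one_mulVec, add_sub_cancel]
  have hAw : mt A *ᵥ w = w := by rw [hAv, hDw, add_zero]
  have hfix : ∀ {f y}, mt A *ᵥ f = f → B (D *ᵥ y) f = 0 := fun {f y} hf => by
    have e := value_mulVec hB A y f
    rw [hf, hAv, map_add, LinearMap.add_apply] at e
    linear_combination e
  have hwk : B w k = 0 := hfix hAk
  have hww : B w w = 0 := hfix hAw
  set W : Submodule F (Fin 3 → F) := Submodule.span F (Set.range ![k, w]) with hW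
  have hWfr : finrank F W = 2 := by
    rw [hW, finrank_span_eq_card, Fintype.card_fin]
    refine (LinearIndependent.pair_iff' (fun h : k = 0 => hk (by simp [h]))).2 fun r hr => hw0 ?_
    have e := congrArg (fun u => B u k) hr
    simp only [map_smul, LinearMap.smul_apply, smul_eq_mul, hwk, mul_eq_zero, hk, or_false] at e
    rw [← hr, e, zero_smul]
  have hperp : ∀ y, B y k = 0 → B y w = 0 → ∃ r : F, r • w = y := fun y h1 h3 => by
    have hmem : ∀ u, B u k = 0 → B u w = 0 → u ∈ B.orthogonal W := fun u h1 h3 => fun n hn => by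
      show B n u = 0
      refine Submodule.span_induction (p := fun n _ => B n u = 0) ?_ (by simp) (fun a b _ _ ha hb => by simp [ha, hb])
        (fun r a _ ha => by simp [ha]) hn
      rintro _ ⟨i, rfl⟩
      fin_cases i
      · simpa [sym hB k u] using h1
      · simpa [sym hB w u] using h3
    have he : Submodule.span F {w} = B.orthogonal W := by
      refine Submodule.eq_of_le_of_finrank_le ((Submodule.span_singleton_le_iff_mem _ _).2 (hmem w hwk hww)) ?_
      rw [hB.finrank_orth, hWfr, finrank_span_singleton hw0]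
    exact Submodule.mem_span_singleton.1 (he ▸ hmem y h1 h3)
  have hline : ∀ y, B y w ≠ 0 → D *ᵥ y = 0 := fun y hy => by
    obtain ⟨r, hr⟩ := hperp _ (hfix hAk) (hfix (y := y) hAw)
    have e := value_mulVec hB A y y
    rw [hAv, ← hr] at e
    simp only [map_add, map_smul, LinearMap.add_apply, LinearMap.smul_apply, smul_eq_mul, hww, sym hB w y] at e
    have : r = 0 := (mul_eq_zero.1 (show (2 * B y w) * r = 0 by linear_combination e)).resolve_left
      (mul_ne_zero h2 hy)
    rw [← hr, this, zero_smul]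
  obtain ⟨y₀, hy₀⟩ := hB.exists_one hw0
  refine hD0 (Matrix.ext_iff_mulVec.2 fun y => ?_)
  rw [zero_mulVec]
  by_cases hy : B y w = 0
  · have e := hline (y + y₀) (by simp [hy, hy₀])
    rw [mulVec_add, hline y₀ (by rw [hy₀]; exact one_ne_zero), add_zero] at e
    exact e
  · exact hline y hy

namespace Ovg

variable {h : Sq Q B c} {M : Subgroup (Isom Q)} (ov : Ovg h M)
include ov

/-- An element fixing `U ⊗ k` that commutes with a root element of the first factor is in the stabiliser. -/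
theorem of_commute_root {γ z δ : Fin 3 → F} (H : Hyp B γ z δ) {s : F} (hs : s ≠ 0) {m : Isom Q} (hm : m ∈ M)
    {k : Fin 3 → F} (hk : B k k ≠ 0) (hfix : ∀ x, mat Q m *ᵥ ten x k = ten x k)
    (hcomm : h.kk (H.eS s, 1) * m = m * h.kk (H.eS s, 1)) :
    ∃ A : isoG B, mt A *ᵥ k = k ∧ m = h.kk (1, A) := by
  have h2 := H.two
  set N := nM B γ z with hN
  set X : Matrix (Idx 3 3) (Idx 3 3) F := mt (H.eS s) ⊗ₖ 1 - 1 with hX
  have hXm : Commute X (mat Q m) := by
    refine Commute.sub_left ?_ (Commute.one_left _)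
    show _ * _ = _ * _
    rw [← mt_one (B := B), ← h.kk_mat, ← mat_mul, ← mat_mul, hcomm]
  have hN1 : N ⊗ₖ (1 : Matrix (Fin 3) (Fin 3) F) = s⁻¹ • (X - (2⁻¹ : F) • (X * X)) := by
    have e : X = (s • N + (s * s / 2) • (N * N)) ⊗ₖ (1 : Matrix (Fin 3) (Fin 3) F) := by
      rw [hX, H.eS_mat, add_kronecker, add_kronecker, one_kronecker_one, hN, add_kronecker]
      abel
    rw [e, ← mul_kronecker_mul, mul_one]
    simp only [add_mul, mul_add, Algebra.smul_mul_assoc, Algebra.mul_smul_comm, smul_smul, hN, H.n_cube, H.n_cube',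
      ← mul_assoc, zero_mul, smul_zero, add_zero, add_kronecker, smul_kronecker, smul_sub, smul_add]
    match_scalars <;> field_simp
    ring
  have hNm : Commute (N ⊗ₖ (1 : Matrix (Fin 3) (Fin 3) F)) (mat Q m) := by
    rw [hN1]
    exact ((hXm.sub_left ((hXm.mul_left hXm).smul_left _)).smul_left _)
  set L : (Fin 3 → F) →ₗ[F] (Idx 3 3 → F) := (Matrix.mulVecLin (mat Q m)).comp (tenB δ) with hL
  set A₀ := LinearMap.toMatrix' ((evA B γ).comp L) with hA₀
  set A₁ := LinearMap.toMatrix' ((B z z)⁻¹ • (evA B z).comp L) with hA₁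
  set A₂ := LinearMap.toMatrix' ((-(B z z)⁻¹) • (evA B δ).comp L) with hA₂
  set R : Matrix (Idx 3 3) (Idx 3 3) F := 1 ⊗ₖ A₀ + N ⊗ₖ A₁ + (N * N) ⊗ₖ A₂ with hR
  have hδ : ∀ y, mat Q m *ᵥ ten δ y = R *ᵥ ten δ y := fun y => by
    have hzz := H.zz
    rw [hR, add_mulVec, add_mulVec, kron_mulVec_ten, kron_mulVec_ten, kron_mulVec_ten, one_mulVec, hN, H.n_delta,
      H.n2_apply, H.dg, mul_one, hA₀, hA₁, hA₂, LinearMap.toMatrix'_mulVec, LinearMap.toMatrix'_mulVec,
      LinearMap.toMatrix'_mulVec]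
    conv_lhs => rw [evA_decomp H (mat Q m *ᵥ ten δ y)]
    simp only [hL, LinearMap.smul_apply, LinearMap.comp_apply, mulVecLin_apply, tenB_apply, ten_smul_left,
      ten_smul_right, smul_smul, neg_mul_neg]
    rw [inv_mul_cancel₀ hzz, one_smul]
  have hcR : ∀ v, R *ᵥ ((N ⊗ₖ (1 : Matrix (Fin 3) (Fin 3) F)) *ᵥ v) = (N ⊗ₖ (1 : Matrix (Fin 3) (Fin 3) F)) *ᵥ (R *ᵥ v) :=
    fun v => by
      rw [mulVec_mulVec, mulVec_mulVec, hR]
      simp only [add_mul, mul_add, ← mul_kronecker_mul, one_mul, mul_one, mul_assoc]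
  have hstep : ∀ x, (∀ y, mat Q m *ᵥ ten x y = R *ᵥ ten x y) → ∀ y, mat Q m *ᵥ ten (N *ᵥ x) y = R *ᵥ ten (N *ᵥ x) y := by
    intro x hx y
    have e : ten (N *ᵥ x) y = (N ⊗ₖ (1 : Matrix (Fin 3) (Fin 3) F)) *ᵥ ten x y := by
      rw [kron_mulVec_ten, one_mulVec]
    rw [e, hcR, ← hx, mulVec_mulVec, ← hNm.eq, mulVec_mulVec]
  have hz : ∀ y, mat Q m *ᵥ ten z y = R *ᵥ ten z y := by
    have e := hstep δ hδ
    rwa [hN, H.n_delta] at e
  have hγ : ∀ y, mat Q m *ᵥ ten γ y = R *ᵥ ten γ y := fun y => by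
    have e := hstep z hz y
    rw [hN, H.n_z, ten_smul_left, mulVec_smul, mulVec_smul] at e
    exact smul_right_injective _ (neg_ne_zero.2 H.zz) e
  have hmR : mat Q m = R := mat_ext_ten fun x y => by
    conv_lhs => rw [H.expand x]
    conv_rhs => rw [H.expand x]
    simp only [ten_add_left, ten_smul_left, mulVec_add, mulVec_smul, hδ, hz, hγ]
  -- the isometry `A₀`
  have hγv : ∀ y, mat Q m *ᵥ ten γ y = ten γ (A₀ *ᵥ y) := fun y => by
    rw [hmR, hR, add_mulVec, add_mulVec, kron_mulVec_ten, kron_mulVec_ten, kron_mulVec_ten, one_mulVec, hN,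
      H.n_gamma, H.n2_apply, H.gg, mul_zero, neg_zero, zero_smul, CfsgLib.TensorOrth.ten_zero_left,
      CfsgLib.TensorOrth.ten_zero_left, add_zero, add_zero]
  have hiso : ∀ y y', B (A₀ *ᵥ y) (A₀ *ᵥ y') = B y y' := fun y y' => by
    have e := polar_mulVec Q m (ten γ y) (ten δ y')
    rw [hγv, hδ y', hR, add_mulVec, add_mulVec, kron_mulVec_ten, kron_mulVec_ten, kron_mulVec_ten, one_mulVec, hN,
      H.n_delta, H.n2_apply, QuadraticMap.polar_add_right, QuadraticMap.polar_add_right, h.polar, h.polar, h.polar,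
      h.polar, map_smul, smul_eq_mul, H.gz, H.gg, H.gd] at e
    refine mul_left_cancel₀ h.c_ne ?_
    linear_combination e
  have hdet : A₀.det ≠ 0 := fun h0 => by
    obtain ⟨y, hy, hy'⟩ := Matrix.exists_mulVec_eq_zero_iff.2 h0
    exact hy (H.fac.sep fun y' => by rw [← hiso, hy', map_zero, LinearMap.zero_apply])
  set T₀ : isoG B := ⟨Matrix.GeneralLinearGroup.mkOfDetNeZero A₀ hdet, hiso⟩ with hT₀
  have hT₀m : mt T₀ = A₀ := rfl
  have hk₀ : A₀ *ᵥ k = k := by
    rw [hA₀, LinearMap.toMatrix'_mulVec]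
    simp only [hL, LinearMap.comp_apply, mulVecLin_apply, tenB_apply, hfix, evA_ten, H.dg, one_smul]
  have hk₁ : A₁ *ᵥ k = 0 := by
    rw [hA₁, LinearMap.toMatrix'_mulVec]
    simp only [hL, LinearMap.smul_apply, LinearMap.comp_apply, mulVecLin_apply, tenB_apply, hfix, evA_ten, H.dz,
      zero_smul, smul_zero]
  set n := (h.kk (1, T₀))⁻¹ * m with hn
  have hTT : mt T₀⁻¹ * A₀ = 1 := by rw [← hT₀m, ← mt_mul, inv_mul_cancel, mt_one]
  have hnsh : mat Q n = sh B γ z (mt T₀⁻¹ * A₁) (mt T₀⁻¹ * A₂) := by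
    rw [hn, ← map_inv, Prod.inv_mk, inv_one, mat_mul, h.kk_mat, mt_one, hmR, hR, sh]
    simp only [mul_add, ← mul_kronecker_mul, one_mul, hTT, one_kronecker_one, hN]
  -- `n` is unipotent, so lies in `Ω`
  obtain ⟨p, hchar⟩ := CharP.exists F
  have : Fact p.Prime := ⟨CharP.char_is_prime F p⟩
  have hp2 : p ≠ 2 := fun e => h2 (by
    have := CharP.cast_eq_zero F p
    rw [e] at this
    exact_mod_cast this)
  have hodd : p % 2 = 1 := Nat.odd_iff.1 ((Fact.out : p.Prime).odd_of_ne_two hp2)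
  have hp3 : 3 ≤ p := by have := (Fact.out : p.Prime).two_le; omega
  have hnp : n ^ p = 1 := by
    refine mat_ext Q ?_
    have hpow : ∀ i, mat Q (n ^ i) = mat Q n ^ i := fun i => by
      induction i with
      | zero => rw [pow_zero, pow_zero, mat_one]
      | succ i ih => rw [pow_succ, pow_succ, mat_mul, ih]
    have hcube : (mat Q n - 1) ^ 3 = 0 := by
      rw [hnsh, sh, add_assoc, add_sub_cancel_left, pow_succ, pow_two]
      simp only [mul_add, add_mul, ← mul_kronecker_mul, ← mul_assoc, H.n_cube, zero_mul, zero_kronecker, add_zero]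
    have e : (mat Q n - 1) ^ p = 0 := by rw [← Nat.add_sub_cancel' hp3, pow_add, hcube, zero_mul]
    rw [sub_pow_char_of_commute _ (Commute.one_right _), one_pow, sub_eq_zero] at e
    rw [hpow, mat_one, e]
  have hnΩ : n ∈ Cfsg.Omega F ⇑Q := by
    have e : n = n ^ ((p + 1) / 2) * n ^ ((p + 1) / 2) := by
      rw [← pow_add, show (p + 1) / 2 + (p + 1) / 2 = p + 1 by omega, pow_succ, hnp, one_mul]
    rw [e]
    exact sq_mem_omega h2 h.aset.tset.nondeg _
  have hT₀Ω : h.kk (1, T₀) ∈ Cfsg.Omega F ⇑Q := by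
    have e : h.kk (1, T₀) = m * n⁻¹ := by rw [hn, _root_.mul_inv_rev, inv_inv, ← mul_assoc, mul_inv_cancel, one_mul]
    rw [e]
    exact mul_mem (ov.le hm) (inv_mem hnΩ)
  have hnM : n ∈ M := mul_mem (inv_mem (ov.mem _ hT₀Ω (h.kk_mem_wr _ _))) hm
  have hn1 := ov.shape_trivial H hnM hnsh hk (by rw [← mulVec_mulVec, hk₁, mulVec_zero])
  exact ⟨T₀, hk₀, (inv_mul_eq_one.1 hn1).symm⟩

/-- The elements of `M` fixing `U ⊗ k` pointwise are in the stabiliser. -/
theorem mem_Kr_of_fix {k : Fin 3 → F} (hk : B k k ≠ 0) {m : Isom Q} (hm : m ∈ M)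
    (hfix : ∀ x, mat Q m *ᵥ ten x k = ten x k) : m ∈ Kr Q := by
  have : Finite (Isom Q) := inferInstance
  obtain ⟨γ, z, δ, H⟩ := exists_hyp h.fac
  obtain ⟨p, hchar⟩ := CharP.exists F
  have : Fact p.Prime := ⟨CharP.char_is_prime F p⟩
  set K₁ : Subgroup (Isom Q) := M ⊓ TensorSlice.fixP Q ![k] with hK₁
  have hmem : ∀ {g}, g ∈ K₁ → g ∈ M ∧ ∀ x, mat Q g *ᵥ ten x k = ten x k := fun {g} hg =>
    ⟨hg.1, fun x => by have := hg.2 0 x; simpa using this⟩
  let φ : Multiplicative F →* Isom Q :=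
    { toFun := fun s => h.kk (H.eS s.toAdd, 1)
      map_one' := by show h.kk (H.eS 0, 1) = 1; rw [H.eS_zero, Prod.mk_one_one, map_one]
      map_mul' := fun s t => by
        show h.kk (H.eS (s.toAdd + t.toAdd), 1) = h.kk (H.eS s.toAdd, 1) * h.kk (H.eS t.toAdd, 1)
        rw [h.kk_mul, H.eS_add, one_mul] }
  set U := φ.range with hU
  have hφM : ∀ s, φ s ∈ M := fun s => ov.left_mem (H.eS_mem _)
  have hφp : ∀ s, φ s ^ p = 1 := fun s => by
    rw [← map_pow, show s ^ p = 1 from Multiplicative.toAdd.injective (by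
      rw [toAdd_pow, toAdd_one, nsmul_eq_mul, CharP.cast_eq_zero, zero_mul]), map_one]
  have hconj : ∀ s g, g ∈ K₁ → φ s * g * (φ s)⁻¹ ∈ K₁ := by
    intro s g hg
    refine ⟨M.mul_mem (M.mul_mem (hφM s) (hmem hg).1) (M.inv_mem (hφM s)), fun i x => ?_⟩
    have hi : (![k] : Fin 1 → Fin 3 → F) i = k := by fin_cases i; rfl
    rw [hi, mat_mul, mat_mul, ← mulVec_mulVec, ← mulVec_mulVec,
      show (φ s)⁻¹ = h.kk ((H.eS s.toAdd)⁻¹, 1) by
        show (h.kk (H.eS s.toAdd, 1))⁻¹ = _
        rw [← map_inv, Prod.inv_mk, inv_one],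
      h.kk_ten, mt_one, one_mulVec, (hmem hg).2, show φ s = h.kk (H.eS s.toAdd, 1) from rfl, h.kk_ten, mt_one,
      one_mulVec, mt_mulVec_inv]
  have hUn : U ≤ Subgroup.normalizer (K₁ : Set (Isom Q)) := by
    rintro _ ⟨s, rfl⟩
    exact Subgroup.mem_normalizer_fintype (hconj s)
  have hUab : Cfsg.IsElementaryAbelian p U := by
    refine ⟨⟨⟨?_⟩⟩, ?_⟩
    · rintro ⟨_, s, rfl⟩ ⟨_, t, rfl⟩
      exact Subtype.ext (show φ s * φ t = φ t * φ s by rw [← map_mul, mul_comm, map_mul])
    · rintro _ ⟨s, rfl⟩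
      exact hφp s
  have key : ∀ s : Multiplicative F, s.toAdd ≠ 0 → ∀ g ∈ K₁, φ s * g = g * φ s →
      ∃ A : isoG B, mt A *ᵥ k = k ∧ g = h.kk (1, A) := fun s hs g hg hc =>
    ov.of_commute_root H hs (hmem hg).1 hk (hmem hg).2 hc
  have hdvd : ¬ p ∣ Nat.card K₁ := by
    intro hdiv
    obtain ⟨y, hy, hy1, ⟨j, hyj⟩, hyc⟩ :=
      TensorSympOrth.exists_fixed_pelement (Signalizer.isPGroup_of_elab hUab) hUn hdiv
    obtain ⟨A, hAk, rfl⟩ := key (Multiplicative.ofAdd 1) one_ne_zero y hy (hyc _ ⟨_, rfl⟩)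
    rw [← map_pow, Prod.pow_mk, one_pow] at hyj
    have hA1 := eq_one_of_fix_pow (p := p) h.fac hk hAk (j := j) (h.kk_eq_one (by rw [mt_one, det_one]) hyj).2
    exact hy1 (by rw [hA1, Prod.mk_one_one, map_one])
  suffices hle : K₁ ≤ Kr Q from hle ⟨hm, fun i x => by
    have hi : (![k] : Fin 1 → Fin 3 → F) i = k := by fin_cases i; rfl
    rw [hi]; exact hfix x⟩
  by_cases h5 : 5 ≤ p
  · intro g hg
    set u := φ (Multiplicative.ofAdd 1) with hu
    let ρ : Isom Q →* Module.End F (Idx 3 3 → F) :=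
      { toFun := fun g => Matrix.toLin' (mat Q g)
        map_one' := by rw [mat_one, Matrix.toLin'_one]; rfl
        map_mul' := fun a b => by rw [mat_mul, Matrix.toLin'_mul]; rfl }
    have hρ : Function.Injective ρ := fun a b e => mat_ext Q (Matrix.toLin'.injective e)
    have hcube : (ρ u - 1) ^ 3 = 0 := by
      have e : ρ u - 1 = Matrix.toLin' (mat Q u - 1) := by
        rw [map_sub, Matrix.toLin'_one]
        rfl
      have e3 : (mat Q u - 1) ^ 3 = 0 := by
        rw [hu, show φ (Multiplicative.ofAdd (1 : F)) = h.kk (H.eS 1, 1) from rfl, h.kk_mat, mt_one, H.eS_mat,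
          add_kronecker, add_kronecker, one_kronecker_one, add_assoc, add_sub_cancel_left, pow_succ, pow_two]
        simp only [mul_add, add_mul, ← mul_kronecker_mul, Algebra.smul_mul_assoc, Algebra.mul_smul_comm, smul_smul,
          ← mul_assoc, H.n_cube, zero_mul, smul_zero, zero_kronecker, add_zero]
      rw [e, pow_succ, pow_two, Module.End.mul_eq_comp, Module.End.mul_eq_comp, ← Matrix.toLin'_mul,
        ← Matrix.toLin'_mul, ← pow_two, ← pow_succ, e3, map_zero]
    have hc := commute_of_cube_zero h5 ρ hρ (hφp _) hcube hdvd (fun x hx => hconj _ x hx) g hg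
    obtain ⟨A, -, rfl⟩ := key (Multiplicative.ofAdd 1) one_ne_zero g hg hc
    exact h.kk_mem _ _
  -- characteristic three: hyperplanes of the root group
  refine Signalizer.le_of_forall_hyperplane hUab hdvd hUn fun W hW hidx g hg => ?_
  obtain ⟨u, huW, hu1⟩ : ∃ u ∈ W, u ≠ 1 := by
    by_contra! hall
    have hWbot : W = ⊥ := (Subgroup.eq_bot_iff_forall _).2 hall
    have hinj : Function.Injective φ := fun s t e => by
      have e1 := (h.kk_inj (h.eS_det H s.toAdd) (h.eS_det H t.toAdd) e).1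
      have e2 := congrArg (fun S : isoG B => B (mt S *ᵥ δ) z) e1
      simp only [H.eS_delta, map_sub, map_add, map_smul, LinearMap.sub_apply, LinearMap.add_apply,
        LinearMap.smul_apply, smul_eq_mul, H.dz, H.gz, zero_add, mul_zero, sub_zero] at e2
      exact Multiplicative.toAdd.injective (mul_right_cancel₀ H.zz e2)
    rw [hWbot, Subgroup.relIndex_bot_left] at hidx
    rw [hU, ← Nat.card_congr (MonoidHom.ofInjective hinj).toEquiv] at hidx
    have hcard : Nat.card (Multiplicative F) = Fintype.card F := by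
      rw [Nat.card_congr Multiplicative.toAdd, Nat.card_eq_fintype_card]
    have := ov.card
    omega
  obtain ⟨s, rfl⟩ := hW huW
  have hs : s.toAdd ≠ 0 := fun h0 => hu1 (by
    rw [show s = 1 from Multiplicative.toAdd.injective h0, map_one])
  obtain ⟨A, -, rfl⟩ := key s hs g hg.1 (Subgroup.mem_centralizer_iff.1 hg.2 _ huW)
  exact h.kk_mem _ _

end Ovg

end CfsgLib.OrthNineTensor
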