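import Cfsg.Agent.OrthNineTensor.Centralizer

/-!
# Conjugates of half-turns inside the stabiliser

* `mem_Kr_of_commute`: the centraliser of a half-turn of one factor.
* `mem_wr_of_conj`: an element carrying a good half-turn of one factor into `Kr` is in the stabiliser.
-/

set_option autoImplicit false
set_option linter.unusedSectionVars false

namespace CfsgLib.OrthNineTensor

open Matrix Module CfsgLib.Spinor CfsgLib.OrthMax CfsgLib.TensorOrth CfsgLib.TensorSlice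
open CfsgLib.TensorMax (Idx ten ten_smul_left ten_smul_right ten_add_left ten_add_right ten_eq_zero)
open CfsgLib.TensorUnitary (ten_induction)

variable {F : Type*} [Field F] [Fintype F] {Q : QuadraticForm F (Idx 3 3 → F)}
  {B : LinearMap.BilinForm F (Fin 3 → F)} {c : F}

namespace Sq

variable (h : Sq Q B c)
include h

theorem fix_right {k : Fin 3 → F} (hk : B k k ≠ 0) {v : Idx 3 3 → F}
    (hv : mat Q (h.kk (1, ht h.fac k)) *ᵥ v = v) : v = ten ((B k k)⁻¹ • evB B k v) k := by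
  have e : ∀ w, mat Q (h.kk (1, ht h.fac k)) *ᵥ w = (2 : F) • ten ((B k k)⁻¹ • evB B k w) k - w := by
    intro w
    induction w using ten_induction with
    | hadd v w hv hw =>
      rw [mulVec_add, hv, hw, map_add, smul_add, ten_add_left, smul_add]; abel
    | h0 => simp [ten_eq_zero.2 (Or.inl rfl)]
    | h x y =>
      rw [h.kk_ten, mt_one, one_mulVec, ht_apply h.fac hk, TensorSlice.ten_sub_right, TensorOrth.evB_ten, smul_smul,
        ten_smul_right, ten_smul_left, smul_smul]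
      congr 2
      field_simp
  have e' := e v
  rw [hv, eq_sub_iff_add_eq, ← two_smul F] at e'
  exact smul_right_injective _ h.two e'

theorem left_conj (S T : isoG B) (k : Fin 3 → F) (hk : B k k ≠ 0) :
    (h.sw * h.kk (S, T))⁻¹ * h.kk (ht h.fac k, 1) * (h.sw * h.kk (S, T))
      = h.kk (1, ht h.fac (mt T⁻¹ *ᵥ k)) := by
  rw [_root_.mul_inv_rev, h.sw_inv, ← map_inv, Prod.inv_mk, mul_assoc (h.kk (S⁻¹, T⁻¹)), mul_assoc (h.kk (S⁻¹, T⁻¹)),
    ← mul_assoc (h.sw * _) h.sw, h.sw_conj, h.kk_mul, h.kk_mul, one_mul, inv_mul_cancel, ← ht_conj h.fac T⁻¹ hk,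
    inv_inv, mul_assoc]

theorem trace_left {k : Fin 3 → F} (hk : B k k ≠ 0) : (mat Q (h.kk (ht h.fac k, 1))).trace = -3 := by
  rw [h.trace_kk, (ht_det_trace h.fac hk).2, mt_one, trace_one, Fintype.card_fin]
  norm_num

theorem trace_right {k : Fin 3 → F} (hk : B k k ≠ 0) : (mat Q (h.kk (1, ht h.fac k))).trace = -3 := by
  rw [h.trace_kk, (ht_det_trace h.fac hk).2, mt_one, trace_one, Fintype.card_fin]
  norm_num

theorem trace_both {k l : Fin 3 → F} (hk : B k k ≠ 0) (hl : B l l ≠ 0) :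
    (mat Q (h.kk (ht h.fac k, ht h.fac l))).trace = 1 := by
  rw [h.trace_kk, (ht_det_trace h.fac hk).2, (ht_det_trace h.fac hl).2]
  norm_num

theorem one_ne_neg_three : (1 : F) ≠ -3 := fun e => mul_ne_zero h.two h.two (by linear_combination e)

theorem one_ne_three : (1 : F) ≠ 3 := fun e => h.two (by linear_combination -e)

end Sq

namespace Ovg

variable {h : Sq Q B c} {M : Subgroup (Isom Q)} (ov : Ovg h M)
include ov

theorem rot_right_mem {k : Fin 3 → F} (hk : B k k ≠ 0) (hg : Good B k) : h.kk (1, ht h.fac k) ∈ M :=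
  ov.mem _ ((h.rot_right hk).2.2 hg) (h.kk_mem_wr _ _)

theorem rot_left_mem {k : Fin 3 → F} (hk : B k k ≠ 0) (hg : Good B k) : h.kk (ht h.fac k, 1) ∈ M :=
  ov.mem _ ((h.rot_left hk).2.2 hg) (h.kk_mem_wr _ _)

theorem rot_both_mem {k l : Fin 3 → F} (hk : B k k ≠ 0) (hl : B l l ≠ 0) (hg : Good B k ↔ Good B l) :
    h.kk (ht h.fac k, ht h.fac l) ∈ M :=
  ov.mem _ ((h.rot_both hk hl).2 hg) (h.kk_mem_wr _ _)

theorem exists_swap_mem : ∃ S T : isoG B, h.sw * h.kk (S, T) ∈ M ∧ h.sw * h.kk (S, T) ∈ h.wr := by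
  obtain ⟨S, T, hm⟩ := h.exists_swap
  have hw : h.sw * h.kk (S, T) ∈ h.wr := by
    refine h.wr.mul_mem (h.mem_wr.2 (Or.inr ?_)) (h.kk_mem_wr S T)
    rw [h.sw_sq]; exact one_mem _
  exact ⟨S, T, ov.mem _ hm hw, hw⟩

/-- The centraliser of a half-turn of the second factor. -/
theorem mem_Kr_of_commute_right {k : Fin 3 → F} (hk : B k k ≠ 0) {x : Isom Q} (hx : x ∈ M)
    (hc : x * h.kk (1, ht h.fac k) = h.kk (1, ht h.fac k) * x) : x ∈ Kr Q := by
  set S₀ : (Fin 3 → F) →ₗ[F] (Fin 3 → F) :=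
    (B k k)⁻¹ • (evB B k).comp ((Matrix.mulVecLin (mat Q x)).comp (tenB.flip k)) with hS₀
  set Sm := LinearMap.toMatrix' S₀ with hSm
  have hxk : ∀ y, mat Q x *ᵥ ten y k = ten (Sm *ᵥ y) k := fun y => by
    have e : mat Q (h.kk (1, ht h.fac k)) *ᵥ (mat Q x *ᵥ ten y k) = mat Q x *ᵥ ten y k := by
      rw [mulVec_mulVec, ← mat_mul, ← hc, mat_mul, ← mulVec_mulVec, h.kk_ten, mt_one, one_mulVec, ht_self h.fac hk]
    rw [hSm, LinearMap.toMatrix'_mulVec]
    conv_lhs => rw [h.fix_right hk e]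
    simp [hS₀]
  have hiso : ∀ y y', B (Sm *ᵥ y) (Sm *ᵥ y') = B y y' := fun y y' => by
    have e := polar_mulVec Q x (ten y k) (ten y' k)
    rw [hxk, hxk, h.polar, h.polar] at e
    exact mul_left_cancel₀ h.c_ne (mul_right_cancel₀ hk e)
  have hdet : Sm.det ≠ 0 := fun h0 => by
    obtain ⟨y, hy, hy'⟩ := Matrix.exists_mulVec_eq_zero_iff.2 h0
    exact hy (h.fac.sep fun y' => by rw [← hiso, hy', map_zero, LinearMap.zero_apply])
  set S : isoG B := ⟨Matrix.GeneralLinearGroup.mkOfDetNeZero Sm hdet, hiso⟩ with hS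
  obtain ⟨A, hAk, hd⟩ : ∃ A : isoG B, mt A *ᵥ k = k ∧ (mat Q (h.kk (S, A))).det = 1 := by
    rcases Forms.det_mat_eq h.aset.tset.nondeg (h.kk (S, 1)) with hd | hd
    · exact ⟨1, by rw [mt_one, one_mulVec], hd⟩
    · obtain ⟨a, hak, haa⟩ := exists_perp_value h.fac hk 1
      have ha : B a a ≠ 0 := by rw [haa]; exact one_ne_zero
      refine ⟨h.aset.rR a, h.aset.rR_fix ha (by rw [sym h.fac]; exact hak), ?_⟩
      obtain ⟨v, hv⟩ := exists_orth_basis h.aset.tset.f₁ h.two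
      have hr : (mat Q (h.kk (1, h.aset.rR a))).det = -1 := by
        rw [← h.rf_eq, Sq.rf, Forms.det_isReflProd (h.aset.R_isReflProd hv ha), List.length_ofFn]
        norm_num
      rw [show h.kk (S, h.aset.rR a) = h.kk (S, 1) * h.kk (1, h.aset.rR a) by rw [h.kk_mul, mul_one, one_mul],
        h.det_mul', hd, hr]
      ring
  obtain ⟨A', hA'k, hΩ⟩ : ∃ A' : isoG B, mt A' *ᵥ k = k ∧ h.kk (S, A') ∈ Cfsg.Omega F ⇑Q := by
    by_cases hm : h.kk (S, A) ∈ Cfsg.Omega F ⇑Q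
    · exact ⟨A, hAk, hm⟩
    obtain ⟨A₁, hA₁k, hA₁d, hA₁n⟩ := h.exists_adjust hk
    refine ⟨A * A₁, by rw [mt_mul_mulVec, hA₁k, hAk], ?_⟩
    have := h.mul_mem_omega hd hA₁d hm hA₁n
    rwa [h.kk_mul, mul_one] at this
  have hhM : h.kk (S, A') ∈ M := ov.mem _ hΩ (h.kk_mem_wr _ _)
  have hK := ov.mem_Kr_of_fix hk (mul_mem (inv_mem hhM) hx) fun y => mulVec_injective (h.kk (S, A')) (by
    show mat Q (h.kk (S, A')) *ᵥ _ = mat Q (h.kk (S, A')) *ᵥ _
    rw [mulVec_mulVec, ← mat_mul, mul_inv_cancel_left, hxk, h.kk_ten, hA'k]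
    rfl)
  have := mul_mem (h.kk_mem S A') hK
  rwa [mul_inv_cancel_left] at this

/-- The centraliser of a half-turn of the first factor. -/
theorem mem_Kr_of_commute_left {k : Fin 3 → F} (hk : B k k ≠ 0) {x : Isom Q} (hx : x ∈ M)
    (hc : x * h.kk (ht h.fac k, 1) = h.kk (ht h.fac k, 1) * x) : x ∈ Kr Q := by
  obtain ⟨S, T, hsM, -⟩ := ov.exists_swap_mem
  set s := h.sw * h.kk (S, T) with hs
  have hk' : B (mt T⁻¹ *ᵥ k) (mt T⁻¹ *ᵥ k) ≠ 0 := by rwa [value_mulVec h.fac]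
  have hK := ov.mem_Kr_of_commute_right hk' (mul_mem (mul_mem (inv_mem hsM) hx) hsM) (by
    rw [← h.left_conj S T k hk, ← hs]
    simp only [mul_assoc, mul_inv_cancel_left]
    rw [← mul_assoc x, hc, mul_assoc])
  obtain ⟨A, C, e⟩ := h.exists_kk hK
  have e' : x = h.sw * (h.kk (S, T) * h.kk (A, C) * (h.kk (S, T))⁻¹) * h.sw := by
    rw [← e, hs]
    simp only [_root_.mul_inv_rev, h.sw_inv, mul_assoc, mul_inv_cancel_left, inv_mul_cancel_left]
    simp only [← mul_assoc, h.sw_sq, one_mul]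
    rw [mul_one]
  rw [e', ← map_inv, Prod.inv_mk, h.kk_mul, h.kk_mul, h.sw_conj]
  exact h.kk_mem _ _

/-- An element commuting with a half-turn of either factor. -/
theorem mem_Kr_of_commute {g z : Isom Q} (hg : g ∈ M) (hc : g * z = z * g)
    (hz : (∃ k, B k k ≠ 0 ∧ z = h.kk (ht h.fac k, 1)) ∨ ∃ k, B k k ≠ 0 ∧ z = h.kk (1, ht h.fac k)) : g ∈ Kr Q := by
  rcases hz with ⟨k, hk, rfl⟩ | ⟨k, hk, rfl⟩
  · exact ov.mem_Kr_of_commute_left hk hg hc
  · exact ov.mem_Kr_of_commute_right hk hg hc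

/-- Good half-turns of the second factor are conjugate in the stabiliser. -/
theorem exists_moveR {k m : Fin 3 → F} (hk : B k k ≠ 0) (hm : B m m ≠ 0) (gk : Good B k) (gm : Good B m) :
    ∃ g ∈ M, g ∈ Kr Q ∧ g * h.kk (1, ht h.fac k) * g⁻¹ = h.kk (1, ht h.fac m) := by
  have h2 := h.two
  obtain ⟨r, hr⟩ : IsSquare (B k k * B m m) := by
    have hD := disc_ne_zero h.fac
    have e : (LinearMap.BilinForm.toMatrix' B).det * B k k * ((LinearMap.BilinForm.toMatrix' B).det * B m m)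
        = (LinearMap.BilinForm.toMatrix' B).det * (LinearMap.BilinForm.toMatrix' B).det * (B k k * B m m) := by ring
    have h1 : IsSquare ((LinearMap.BilinForm.toMatrix' B).det * (LinearMap.BilinForm.toMatrix' B).det
        * (B k k * B m m)) := e ▸ IsSquare.mul gk gm
    exact ((OrthSquareScalar.isSquare_mul_iff (mul_ne_zero hD hD) (mul_ne_zero hk hm)).1 h1).1 (IsSquare.mul_self _)
  have hr0 : r ≠ 0 := fun h0 => mul_ne_zero hk hm (by rw [hr, h0, mul_zero])
  set m' := (r / B m m) • m with hm'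
  have hval : B m' m' = B k k := by
    simp only [hm', map_smul, LinearMap.smul_apply, smul_eq_mul]
    field_simp
    linear_combination -hr
  obtain ⟨S, hS⟩ : ∃ S : isoG B, ht h.fac (mt S *ᵥ k) = ht h.fac m := by
    have hs : r / B m m ≠ 0 := div_ne_zero hr0 hm
    by_cases hd : B (k - m') (k - m') ≠ 0
    · refine ⟨h.aset.rR (k - m'), ?_⟩
      have e : mt (h.aset.rR (k - m')) *ᵥ k = m' := by
        rw [h.aset.rR_apply hd]
        have e2 : 2 * B k (k - m') / B (k - m') (k - m') = 1 := by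
          rw [div_eq_one_iff_eq hd]
          simp only [map_sub, LinearMap.sub_apply, hval, sym h.fac m' k]
          ring
        rw [e2, one_smul, sub_sub_cancel]
      rw [e, hm', ht_smul h.fac hm hs]
    · push Not at hd
      have hp : B (k + m') (k + m') ≠ 0 := fun hp => hk (by
        simp only [map_add, map_sub, LinearMap.add_apply, LinearMap.sub_apply, hval, sym h.fac m' k] at hp hd
        exact (mul_eq_zero.1 (show (2 * 2) * B k k = 0 by linear_combination hp + hd)).resolve_left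
          (mul_ne_zero h2 h2))
      refine ⟨h.aset.rR (k + m'), ?_⟩
      have e : mt (h.aset.rR (k + m')) *ᵥ k = -m' := by
        rw [h.aset.rR_apply hp]
        have e2 : 2 * B k (k + m') / B (k + m') (k + m') = 1 := by
          rw [div_eq_one_iff_eq hp]
          simp only [map_add, LinearMap.add_apply, hval, sym h.fac m' k]
          ring
        rw [e2, one_smul, sub_add_cancel_left]
      rw [e, hm', ← neg_smul, ht_smul h.fac hm (neg_ne_zero.2 hs)]
  obtain ⟨S₁, hS₁, hdet⟩ : ∃ S₁ : isoG B, (∀ U, S₁ * U = U * S₁) ∧ (mat Q (h.kk (S₁, S))).det = 1 := by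
    rcases Forms.det_mat_eq h.aset.tset.nondeg (h.kk (1, S)) with hd | hd
    · exact ⟨1, fun U => by rw [one_mul, mul_one], hd⟩
    · refine ⟨negOne B, fun U => isoG_ext' fun x => by
        rw [mt_mul_mulVec, mt_mul_mulVec, negOne_mulVec, negOne_mulVec, mulVec_neg], ?_⟩
      rw [h.det_kk, mt_one, det_one, one_pow, one_mul] at hd
      rw [h.det_kk, h.det_negOne, hd]
      ring
  obtain ⟨S₂, A, hAk, hΩ⟩ : ∃ (S₂ A : isoG B), mt A *ᵥ k = k ∧ h.kk (S₁ * S₂, S * A) ∈ Cfsg.Omega F ⇑Q := by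
    by_cases hmem : h.kk (S₁, S) ∈ Cfsg.Omega F ⇑Q
    · exact ⟨1, 1, by rw [mt_one, one_mulVec], by rwa [mul_one, mul_one]⟩
    obtain ⟨A, hAk, hAd, hAn⟩ := h.exists_adjust hk
    exact ⟨1, A, hAk, by
      have := h.mul_mem_omega hdet hAd hmem hAn
      rwa [h.kk_mul] at this⟩
  refine ⟨_, ov.mem _ hΩ (h.kk_mem_wr _ _), h.kk_mem _ _, ?_⟩
  rw [← map_inv, Prod.inv_mk, h.kk_mul, h.kk_mul, mul_one, mul_inv_cancel,
    ht_conj h.fac (S * A) hk, mt_mul_mulVec, hAk, hS]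

/-- Carrying a good half-turn of the second factor into `Kr`. -/
theorem mem_wr_of_conj_right {k : Fin 3 → F} (hk : B k k ≠ 0) (gk : Good B k) {x : Isom Q} (hx : x ∈ M)
    (hy : x * h.kk (1, ht h.fac k) * x⁻¹ ∈ Kr Q) : x ∈ h.wr := by
  have tM := ov.rot_right_mem hk gk
  set t := h.kk (1, ht h.fac k) with ht'
  set y := x * t * x⁻¹ with hy'
  have hyM : y ∈ M := mul_mem (mul_mem hx tM) (inv_mem hx)
  have t2 : t * t = 1 := by rw [ht', h.kk_mul, one_mul, ht_sq h.fac hk, Prod.mk_one_one, map_one]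
  have y2 : y * y = 1 := by
    rw [hy', show x * t * x⁻¹ * (x * t * x⁻¹) = x * (t * t) * x⁻¹ by group, t2, mul_one, mul_inv_cancel]
  have htr : (mat Q y).trace = -3 := by rw [hy', h.trace_conj, ht', h.trace_right hk]
  have y1 : y ≠ 1 := fun e => by
    have e' : x * t * x⁻¹ = 1 := e
    rw [conj_eq_one_iff, ht'] at e'
    exact ht_ne_one h.fac hk (h.kk_eq_one (by rw [mt_one, det_one]) e').2
  rcases h.involution_cases hy (h.det_omega (ov.le hyM)) y2 y1 with ⟨m, hm, e⟩ | ⟨m, hm, e⟩ | ⟨m, n, hm, hn, e⟩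
  · have gm : Good B m := (h.rot_left hm).2.1 (by rw [← e]; exact ov.le hyM)
    obtain ⟨S, T, hsM, hsW⟩ := ov.exists_swap_mem
    set s := h.sw * h.kk (S, T) with hs
    have hm' : B (mt T⁻¹ *ᵥ m) (mt T⁻¹ *ᵥ m) ≠ 0 := by rwa [value_mulVec h.fac]
    obtain ⟨g, hgM, hgK, hg⟩ := ov.exists_moveR hk hm' gk ((good_mulVec h.fac _ _).2 gm)
    have hK := ov.mem_Kr_of_commute_right hk (mul_mem (mul_mem (inv_mem hgM) (inv_mem hsM)) hx) (by
      have e1 : s⁻¹ * y * s = g * t * g⁻¹ := by rw [e, hs, h.left_conj S T m hm, ht', hg]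
      have e2 : y = s * (g * t * g⁻¹) * s⁻¹ := by rw [← e1]; group
      rw [show g⁻¹ * s⁻¹ * x * h.kk (1, ht h.fac k) = g⁻¹ * s⁻¹ * y * x by rw [hy', ht']; group, e2, ht']
      group)
    have e3 : x = s * g * (g⁻¹ * s⁻¹ * x) := by group
    rw [e3]
    exact h.wr.mul_mem (h.wr.mul_mem hsW (Or.inl hgK)) (Or.inl hK)
  · have gm : Good B m := (h.rot_right hm).2.1 (by rw [← e]; exact ov.le hyM)
    obtain ⟨g, hgM, hgK, hg⟩ := ov.exists_moveR hk hm gk gm
    have hK := ov.mem_Kr_of_commute_right hk (mul_mem (inv_mem hgM) hx) (by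
      have e2 : y = g * t * g⁻¹ := by rw [e, ht', hg]
      rw [show g⁻¹ * x * h.kk (1, ht h.fac k) = g⁻¹ * y * x by rw [hy', ht']; group, e2, ht']
      group)
    have e3 : x = g * (g⁻¹ * x) := by group
    rw [e3]
    exact h.wr.mul_mem (Or.inl hgK) (Or.inl hK)
  · rw [e, h.trace_both hm hn] at htr
    exact absurd htr h.one_ne_neg_three

/-- Carrying a good half-turn of the first factor into `Kr`. -/
theorem mem_wr_of_conj_left {k : Fin 3 → F} (hk : B k k ≠ 0) (gk : Good B k) {x : Isom Q} (hx : x ∈ M)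
    (hy : x * h.kk (ht h.fac k, 1) * x⁻¹ ∈ Kr Q) : x ∈ h.wr := by
  obtain ⟨S, T, hsM, hsW⟩ := ov.exists_swap_mem
  set s := h.sw * h.kk (S, T) with hs
  have hk' : B (mt T⁻¹ *ᵥ k) (mt T⁻¹ *ᵥ k) ≠ 0 := by rwa [value_mulVec h.fac]
  have hw := ov.mem_wr_of_conj_right hk' ((good_mulVec h.fac _ _).2 gk) (mul_mem hx hsM) (by
    rw [← h.left_conj S T k hk, ← hs,
      show x * s * (s⁻¹ * h.kk (ht h.fac k, 1) * s) * (x * s)⁻¹ = x * h.kk (ht h.fac k, 1) * x⁻¹ by group]
    exact hy)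
  have e : x = x * s * s⁻¹ := by group
  rw [e]
  exact h.wr.mul_mem hw (h.wr.inv_mem hsW)

end Ovg

end CfsgLib.OrthNineTensor
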