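import Cfsg.Agent.OrthNineTensor.Conjugation

/-!
# Pairs of involutions: the overgroup is the stabiliser

* `dihedral_cases`: two involutions are conjugate, or centralised by a third one.
* `mem_wr`: every element of a proper overgroup lies in the stabiliser.
-/

set_option autoImplicit false
set_option linter.unusedSectionVars false

namespace CfsgLib.OrthNineTensor

open Matrix Module CfsgLib.Spinor CfsgLib.OrthMax CfsgLib.TensorOrth CfsgLib.TensorSlice
open CfsgLib.TensorMax (Idx)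

/-- Two involutions generate a dihedral group. -/
theorem dihedral_cases {G : Type*} [Group G] [Finite G] {S : Subgroup G} {t y : G} (ht : t ∈ S) (hy : y ∈ S)
    (ht2 : t * t = 1) (hy2 : y * y = 1) :
    (∃ x ∈ S, (∀ g, g * t = t * g → g * y = y * g → g * x = x * g) ∧ x * t * x⁻¹ = y) ∨
      ∃ z ∈ S, z * z = 1 ∧ z ≠ 1 ∧ z * t = t * z ∧ z * y = y * z ∧
        (∀ g, g * t = t * g → g * y = y * g → g * z = z * g) ∧
        ((∃ x ∈ S, (∀ g, g * t = t * g → g * y = y * g → g * x = x * g) ∧ x * (t * z) * x⁻¹ = y) ∨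
          ∃ r ∈ S, (∀ g, g * t = t * g → g * y = y * g → g * r = r * g) ∧ r * t * r⁻¹ = t * z ∧
            r * y * r⁻¹ = y * z) := by
  set w := t * y with hw
  have hwS : w ∈ S := mul_mem ht hy
  have hn : 0 < orderOf w := orderOf_pos w
  have hti : t⁻¹ = t := inv_eq_of_mul_eq_one_right ht2
  have hyi : y⁻¹ = y := inv_eq_of_mul_eq_one_right hy2
  have hy' : y = t * w := by rw [hw, ← mul_assoc, ht2, one_mul]
  have hinv : ∀ i : ℕ, t * w ^ i * t = (w ^ i)⁻¹ := by
    intro i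
    induction i with
    | zero => rw [pow_zero, mul_one, ht2, inv_one]
    | succ i ih =>
      have h1 : t * w * t = w⁻¹ := by
        rw [hw, _root_.mul_inv_rev, hti, hyi, ← mul_assoc, ht2, one_mul]
      rw [pow_succ', _root_.mul_inv_rev, ← inv_pow]
      calc t * (w * w ^ i) * t = t * w * t * (t * w ^ i * t) := by
            simp only [mul_assoc]; rw [← mul_assoc t t, ht2, one_mul]
        _ = w⁻¹ * (w ^ i)⁻¹ := by rw [h1, ih]
        _ = _ := by rw [← inv_pow, ← pow_succ', ← pow_succ]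
  have hconj : ∀ i : ℕ, w ^ i * t * (w ^ i)⁻¹ = t * (w ^ (i + i))⁻¹ := by
    intro i
    have h1 : w ^ i * t = t * (w ^ i)⁻¹ := by
      rw [← hinv i, ← mul_assoc, ← mul_assoc, ht2, one_mul]
    rw [h1, mul_assoc, ← _root_.mul_inv_rev, pow_add]
  have hcent : ∀ (i : ℕ) g, g * t = t * g → g * y = y * g → g * w ^ i = w ^ i * g := fun i g h1 h3 =>
    ((show Commute g w from (Commute.mul_right h1 h3 : Commute g (t * y))).pow_right i).eq
  rcases Nat.even_or_odd' (orderOf w) with ⟨m, hm | hm⟩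
  · -- even order
    set z := w ^ m with hz
    have hzz : z * z = 1 := by rw [hz, ← pow_add, ← two_mul, ← hm, pow_orderOf_eq_one]
    have hz1 : z ≠ 1 := pow_ne_one_of_lt_orderOf (by omega) (by omega)
    have hzi : z⁻¹ = z := inv_eq_of_mul_eq_one_right hzz
    have hzt : z * t = t * z := by
      have h1 := hinv m
      rw [← hz, hzi] at h1
      calc z * t = t * z * t * t := by rw [h1]
        _ = t * z := by rw [mul_assoc _ t t, ht2, mul_one]
    have hzw : z * w = w * z := by rw [hz, ← pow_succ, ← pow_succ']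
    have hzy : z * y = y * z := by rw [hy', ← mul_assoc, hzt, mul_assoc, hzw, ← mul_assoc]
    refine Or.inr ⟨z, pow_mem hwS m, hzz, hz1, hzt, hzy, hcent m, ?_⟩
    rcases Nat.even_or_odd' m with ⟨j, hj | hj⟩
    · refine Or.inr ⟨w ^ j, pow_mem hwS j, hcent j, ?_, ?_⟩
      · rw [hconj, ← two_mul, ← hj, ← hz, hzi]
      · conv_lhs => rw [hy', ← mul_assoc]
        rw [mul_assoc (w ^ j * t), show w * (w ^ j)⁻¹ = (w ^ j)⁻¹ * w from
          ((Commute.refl w).pow_right j).inv_right.eq, ← mul_assoc, hconj, ← two_mul, ← hj, ← hz, hzi, mul_assoc,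
          hzw, ← mul_assoc, ← hy']
    · refine Or.inl ⟨w ^ j, pow_mem hwS j, hcent j, ?_⟩
      rw [← mul_assoc, mul_assoc (w ^ j * t), show z * (w ^ j)⁻¹ = (w ^ j)⁻¹ * z from
        (((Commute.refl w).pow_pow m j)).inv_right.eq, ← mul_assoc, hconj, mul_assoc, hy']
      congr 1
      rw [inv_mul_eq_iff_eq_mul, hz, hj, ← pow_succ]
      congr 1
      omega
  · refine Or.inl ⟨w ^ m, pow_mem hwS m, hcent m, ?_⟩
    rw [hconj, hy']
    congr 1
    rw [inv_eq_iff_mul_eq_one, ← pow_succ, ← two_mul, ← hm, pow_orderOf_eq_one]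

variable {F : Type*} [Field F] [Fintype F] {Q : QuadraticForm F (Idx 3 3 → F)}
  {B : LinearMap.BilinForm F (Fin 3 → F)} {c : F}

/-- A half-turn commuting with two in a frame is the one about an axis of the frame. -/
theorem exists_axis (hB : Fac B 1) {e : Fin 3 → Fin 3 → F} (he : IsOrth B e) {m : Fin 3 → F} (hm : B m m ≠ 0)
    (h0 : ht hB m * ht hB (e 0) = ht hB (e 0) * ht hB m) (h1 : ht hB m * ht hB (e 1) = ht hB (e 1) * ht hB m) :
    ∃ i, ht hB m = ht hB (e i) := by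
  rcases commute_cases hB (he.1 0) hm h0 with h0' | h0'
  · exact ⟨0, h0'⟩
  rcases commute_cases hB (he.1 1) hm h1 with h1' | h1'
  · exact ⟨1, h1'⟩
  have e2 : m = (B m (e 2) / B (e 2) (e 2)) • e 2 := by
    refine sub_eq_zero.1 (eq_zero_of_pair hB (orth_indep he) fun i => ?_)
    obtain rfl | rfl | rfl : i = 0 ∨ i = 1 ∨ i = 2 := by omega
    · simp [sym hB m (e 0), h0', he.2 2 0 (by decide)]
    · simp [sym hB m (e 1), h1', he.2 2 1 (by decide)]
    · simp [he.1 2]
  exact ⟨2, by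
    conv_lhs => rw [e2]
    exact ht_smul hB (he.1 2) fun h0 => hm (by rw [e2, h0]; simp)⟩

namespace Sq

variable (h : Sq Q B c)
include h

theorem good_congr {m k : Fin 3 → F} (hm : B m m ≠ 0) (hk : B k k ≠ 0) (e : ht h.fac m = ht h.fac k) :
    Good B m ↔ Good B k := by
  rw [← (h.rot_right hm).2, ← (h.rot_right hk).2, e]

theorem commute_components {a b m n : Fin 3 → F} (ha : B a a ≠ 0) (hm : B m m ≠ 0)
    (e : h.kk (ht h.fac m, ht h.fac n) * h.kk (ht h.fac a, ht h.fac b) =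
      h.kk (ht h.fac a, ht h.fac b) * h.kk (ht h.fac m, ht h.fac n)) :
    ht h.fac m * ht h.fac a = ht h.fac a * ht h.fac m ∧ ht h.fac n * ht h.fac b = ht h.fac b * ht h.fac n := by
  rw [h.kk_mul, h.kk_mul] at e
  exact h.kk_inj (by rw [mt_mul, det_mul, (ht_det_trace h.fac hm).1, (ht_det_trace h.fac ha).1, one_mul])
    (by rw [mt_mul, det_mul, (ht_det_trace h.fac hm).1, (ht_det_trace h.fac ha).1, one_mul]) e

theorem sq_one {S T : isoG B} (hS : S * S = 1) (hT : T * T = 1) : h.kk (S, T) * h.kk (S, T) = 1 := by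
  rw [h.kk_mul, hS, hT, Prod.mk_one_one, map_one]

end Sq

namespace Ovg

variable {h : Sq Q B c} {M : Subgroup (Isom Q)} (ov : Ovg h M)
include ov

/-- The centraliser of a pair of good half-turns. -/
theorem mem_wr_of_commute_good {k l : Fin 3 → F} (hk : B k k ≠ 0) (hl : B l l ≠ 0) (gk : Good B k)
    (gl : Good B l) {x : Isom Q} (hx : x ∈ M)
    (hc : x * h.kk (ht h.fac k, ht h.fac l) = h.kk (ht h.fac k, ht h.fac l) * x) : x ∈ h.wr := by
  obtain ⟨e, he, rfl, g1⟩ := exists_frame_good h.fac hk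
  set d := h.kk (ht h.fac (e 0), ht h.fac l) with hd
  set t := h.kk (ht h.fac (e 0), 1) with ht'
  set u := h.kk (ht h.fac (e 1), 1) with hu
  set X := x * u * x⁻¹ with hX
  have tM : t ∈ M := ov.rot_left_mem hk gk
  have XM : X ∈ M := mul_mem (mul_mem hx (ov.rot_left_mem (he.1 1) g1)) (inv_mem hx)
  have t2 : t * t = 1 := h.sq_one (ht_sq h.fac hk) (one_mul 1)
  have u2 : u * u = 1 := h.sq_one (ht_sq h.fac (he.1 1)) (one_mul 1)
  have d2 : d * d = 1 := h.sq_one (ht_sq h.fac hk) (ht_sq h.fac hl)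
  have X2 : X * X = 1 := by
    rw [hX, show x * u * x⁻¹ * (x * u * x⁻¹) = x * (u * u) * x⁻¹ by group, u2, mul_one, mul_inv_cancel]
  have hud : d * u = u * d := by
    rw [hd, hu, h.kk_mul, h.kk_mul, mul_one, one_mul,
      ht_mul_ht h.fac he (i := 0) (j := 1) (l := 2) (by decide) (by decide) (by decide),
      ht_mul_ht h.fac he (i := 1) (j := 0) (l := 2) (by decide) (by decide) (by decide)]
  have hdt : d * t = t * d := by rw [hd, ht', h.kk_mul, h.kk_mul, mul_one, one_mul]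
  have hdX : d * X = X * d := by
    have hc' : x⁻¹ * d = d * x⁻¹ := (Commute.inv_left (hc : Commute x d)).eq
    rw [hX, show d * (x * u * x⁻¹) = (d * x) * u * x⁻¹ by group, ← hc, mul_assoc x d u, hud,
      show x * (u * d) * x⁻¹ = x * u * (d * x⁻¹) by group, ← hc']
    group
  have trX : (mat Q X).trace = -3 := by rw [hX, h.trace_conj, hu, h.trace_left (he.1 1)]
  have trXd : (mat Q (X * d)).trace = 1 := by
    have e1 : X * d = x * (u * d) * x⁻¹ := by
      have hc' : x⁻¹ * d = d * x⁻¹ := (Commute.inv_left (hc : Commute x d)).eq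
      rw [hX, mul_assoc (x * u), hc']
      group
    rw [e1, h.trace_conj, hu, hd, h.kk_mul, one_mul,
      ht_mul_ht h.fac he (i := 1) (j := 0) (l := 2) (by decide) (by decide) (by decide),
      h.trace_both (he.1 2) hl]
  have trtd : (mat Q (t * d)).trace = -3 := by
    rw [ht', hd, h.kk_mul, ht_sq h.fac hk, one_mul, h.trace_right hl]
  refine ov.mem_wr_of_conj_left (he.1 1) g1 hx ?_
  show X ∈ Kr Q
  rcases dihedral_cases tM XM t2 X2 with ⟨a, -, ha, hconj⟩ | ⟨z, zM, z2, z1, hzt, hzX, hzc, hcases⟩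
  · exfalso
    refine h.one_ne_neg_three ?_
    rw [← trXd, ← trtd, ← h.trace_conj (t * d) a]
    congr 2
    rw [← hconj, mul_assoc (a * t), (Commute.inv_left (ha d hdt hdX).symm : Commute a⁻¹ d).eq]
    group
  have hzd : z * d = d * z := (hzc d hdt hdX).symm
  have zK : z ∈ Kr Q := ov.mem_Kr_of_commute_left hk zM hzt
  rcases h.involution_cases zK (h.det_omega (ov.le zM)) z2 z1 with
    ⟨m, hm, rfl⟩ | ⟨m, hm, rfl⟩ | ⟨m, n, hm, hn, rfl⟩
  · exact ov.mem_Kr_of_commute XM hzX.symm (Or.inl ⟨m, hm, rfl⟩)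
  · exact ov.mem_Kr_of_commute XM hzX.symm (Or.inr ⟨m, hm, rfl⟩)
  obtain ⟨c1, c2⟩ := h.commute_components hk hm hzd
  have hXzd : X * (h.kk (ht h.fac m, ht h.fac n) * d) = h.kk (ht h.fac m, ht h.fac n) * d * X :=
    (Commute.mul_right (show Commute X _ from hzX.symm) (show Commute X d from hdX.symm)).eq
  rcases commute_cases h.fac hk hm c1 with e1 | e1 <;> rcases commute_cases h.fac hl hn c2 with e2 | e2
  · exfalso
    have ez : h.kk (ht h.fac m, ht h.fac n) = d := by rw [hd, e1, e2]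
    rw [ez] at hcases
    refine h.one_ne_neg_three ?_
    rcases hcases with ⟨a, -, ha, hconj⟩ | ⟨r, -, hr, -, hrX⟩
    · rw [← trXd, ← h.trace_left hk, ← ht', ← h.trace_conj t a]
      congr 2
      rw [← hconj, mul_assoc (a * (t * d)), (Commute.inv_left (ha d hdt hdX).symm : Commute a⁻¹ d).eq]
      simp only [mul_assoc]
      rw [← mul_assoc d d, d2, one_mul]
    · rw [← trXd, ← hrX, h.trace_conj, trX]
  · refine ov.mem_Kr_of_commute XM hXzd ?_
    obtain ⟨f, hf, hf0, hf1⟩ := exists_frame h.fac hl hn e2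
    refine Or.inr ⟨f 2, hf.1 2, ?_⟩
    rw [hd, h.kk_mul, e1, ht_sq h.fac hk, ← hf0, ← hf1,
      ht_mul_ht h.fac hf (i := 1) (j := 0) (l := 2) (by decide) (by decide) (by decide)]
  · refine ov.mem_Kr_of_commute XM hXzd ?_
    obtain ⟨f, hf, hf0, hf1⟩ := exists_frame h.fac hk hm e1
    refine Or.inl ⟨f 2, hf.1 2, ?_⟩
    rw [hd, h.kk_mul, e2, ht_sq h.fac hl, ← hf0, ← hf1,
      ht_mul_ht h.fac hf (i := 1) (j := 0) (l := 2) (by decide) (by decide) (by decide)]
  · exfalso
    obtain ⟨f, hf, hf0, hf1⟩ := exists_frame h.fac hk hm e1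
    have trtz : (mat Q (t * h.kk (ht h.fac m, ht h.fac n))).trace = 1 := by
      rw [ht', h.kk_mul, one_mul, ← hf0, ← hf1,
        ht_mul_ht h.fac hf (i := 0) (j := 1) (l := 2) (by decide) (by decide) (by decide),
        h.trace_both (hf.1 2) hn]
    refine h.one_ne_neg_three ?_
    rcases hcases with ⟨a, -, -, hconj⟩ | ⟨r, -, -, hrt, -⟩
    · rw [← trtz, ← trX, ← hconj, h.trace_conj]
    · rw [← trtz, ← hrt, h.trace_conj, ht', h.trace_left hk]

/-- The centraliser of any pair of half-turns of equal class. -/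
theorem mem_wr_of_commute_pair {k l : Fin 3 → F} (hk : B k k ≠ 0) (hl : B l l ≠ 0) (hg : Good B k ↔ Good B l)
    {x : Isom Q} (hx : x ∈ M)
    (hc : x * h.kk (ht h.fac k, ht h.fac l) = h.kk (ht h.fac k, ht h.fac l) * x) : x ∈ h.wr := by
  by_cases gk : Good B k
  · exact ov.mem_wr_of_commute_good hk hl gk (hg.1 gk) hx hc
  have gl : ¬ Good B l := fun g => gk (hg.2 g)
  obtain ⟨e, he, rfl, g1⟩ := exists_frame_good h.fac hk
  obtain ⟨f, hf, rfl, f1⟩ := exists_frame_good h.fac hl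
  have g2 : ¬ Good B (e 2) := fun g => gk (((good_third h.fac he).1 g).2 g1)
  have f2 : ¬ Good B (f 2) := fun g => gl (((good_third h.fac hf).1 g).2 f1)
  set d := h.kk (ht h.fac (e 0), ht h.fac (f 0)) with hd
  set b := h.kk (ht h.fac (e 1), ht h.fac (f 1)) with hb
  set u := h.kk (ht h.fac (e 1), 1) with hu
  set X := x * u * x⁻¹ with hX
  have bM : b ∈ M := ov.rot_both_mem (he.1 1) (hf.1 1) (iff_of_true g1 f1)
  have dM : d ∈ M := ov.rot_both_mem hk hl hg
  have XM : X ∈ M := mul_mem (mul_mem hx (ov.rot_left_mem (he.1 1) g1)) (inv_mem hx)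
  have b2 : b * b = 1 := h.sq_one (ht_sq h.fac (he.1 1)) (ht_sq h.fac (hf.1 1))
  have d2 : d * d = 1 := h.sq_one (ht_sq h.fac hk) (ht_sq h.fac hl)
  have u2 : u * u = 1 := h.sq_one (ht_sq h.fac (he.1 1)) (one_mul 1)
  have X2 : X * X = 1 := by
    rw [hX, show x * u * x⁻¹ * (x * u * x⁻¹) = x * (u * u) * x⁻¹ by group, u2, mul_one, mul_inv_cancel]
  have p01 := ht_mul_ht h.fac he (i := 0) (j := 1) (l := 2) (by decide) (by decide) (by decide)
  have p10 := ht_mul_ht h.fac he (i := 1) (j := 0) (l := 2) (by decide) (by decide) (by decide)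
  have q01 := ht_mul_ht h.fac hf (i := 0) (j := 1) (l := 2) (by decide) (by decide) (by decide)
  have q10 := ht_mul_ht h.fac hf (i := 1) (j := 0) (l := 2) (by decide) (by decide) (by decide)
  have q20 := ht_mul_ht h.fac hf (i := 2) (j := 0) (l := 1) (by decide) (by decide) (by decide)
  have p20 := ht_mul_ht h.fac he (i := 2) (j := 0) (l := 1) (by decide) (by decide) (by decide)
  have hdu : d * u = u * d := by rw [hd, hu, h.kk_mul, h.kk_mul, mul_one, one_mul, p01, p10]
  have hdb : d * b = b * d := by rw [hd, hb, h.kk_mul, h.kk_mul, p01, p10, q01, q10]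
  have hdX : d * X = X * d := by
    have hc' : x⁻¹ * d = d * x⁻¹ := (Commute.inv_left (hc : Commute x d)).eq
    rw [hX, show d * (x * u * x⁻¹) = (d * x) * u * x⁻¹ by group, ← hc, mul_assoc x d u, hdu,
      show x * (u * d) * x⁻¹ = x * u * (d * x⁻¹) by group, ← hc']
    group
  have trX : (mat Q X).trace = -3 := by rw [hX, h.trace_conj, hu, h.trace_left (he.1 1)]
  have trXd : (mat Q (X * d)).trace = 1 := by
    have e1 : X * d = x * (u * d) * x⁻¹ := by
      have hc' : x⁻¹ * d = d * x⁻¹ := (Commute.inv_left (hc : Commute x d)).eq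
      rw [hX, mul_assoc (x * u), hc']
      group
    rw [e1, h.trace_conj, hu, hd, h.kk_mul, one_mul, p10, h.trace_both (he.1 2) hl]
  have trb : (mat Q b).trace = 1 := h.trace_both (he.1 1) (hf.1 1)
  have hXd2 : X * d * (X * d) = 1 := by
    rw [mul_assoc, ← mul_assoc d, hdX, mul_assoc X, d2, mul_one, X2]
  -- an element of the stabiliser commuting with `d` conjugate to `X` is in `Kr`
  have finish : X ∈ h.wr → X ∈ Kr Q := fun hw => by
    have hK : X * d ∈ Kr Q := h.mem_Kr_of_trace_one (h.wr.mul_mem hw (h.kk_mem_wr _ _)) hXd2 trXd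
    have := mul_mem hK (h.kk_mem (ht h.fac (e 0)) (ht h.fac (f 0)))
    rwa [← hd, mul_assoc, d2, mul_one] at this
  refine ov.mem_wr_of_conj_left (he.1 1) g1 hx ?_
  show X ∈ Kr Q
  rcases dihedral_cases bM XM b2 X2 with ⟨a, -, -, hconj⟩ | ⟨z, zM, z2, z1, hzb, hzX, hzc, hcases⟩
  · exfalso
    refine h.one_ne_neg_three ?_
    rw [← trb, ← trX, ← hconj, h.trace_conj]
  have hzd : z * d = d * z := (hzc d hdb hdX).symm
  have zW : z ∈ h.wr := ov.mem_wr_of_commute_good (he.1 1) (hf.1 1) g1 f1 zM hzb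
  rcases zW with zK | zS
  swap
  · -- `z` exchanges the factors
    exfalso
    have hswap : ∀ g : Isom Q, g * h.sw ∈ Kr Q → g * g = 1 → (mat Q g).trace ≠ 1 := fun g hg hg2 ht1 => by
      rcases h.swap_trace hg hg2 with e | e <;> rw [ht1] at e
      · exact h.one_ne_three e
      · exact h.one_ne_neg_three e
    have hmul : ∀ {g k : Isom Q}, g * h.sw ∈ Kr Q → k ∈ Kr Q → k * g * h.sw ∈ Kr Q ∧ g * k * h.sw ∈ Kr Q := by
      intro g k hg hk
      refine ⟨by rw [mul_assoc]; exact mul_mem hk hg, ?_⟩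
      obtain ⟨S, T, rfl⟩ := h.exists_kk hk
      have e1 : g * h.kk (S, T) * h.sw = g * h.sw * (h.sw * h.kk (S, T) * h.sw) := by
        simp only [mul_assoc]; rw [← mul_assoc h.sw h.sw, h.sw_sq, one_mul]
      rw [e1, h.sw_conj]
      exact mul_mem hg (h.kk_mem _ _)
    rcases hcases with ⟨a, -, ha, hconj⟩ | ⟨r, -, -, hrb, -⟩
    · have hS : b * z * d * h.sw ∈ Kr Q := (hmul (hmul zS (h.kk_mem _ _)).1 (h.kk_mem _ _)).2
      have e1 : X * d = a * (b * z * d) * a⁻¹ := by
        rw [← hconj, mul_assoc (a * (b * z)), (Commute.inv_left (ha d hdb hdX).symm : Commute a⁻¹ d).eq]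
        group
      refine hswap _ hS ?_ ?_
      · have h1 : a * (b * z * d * (b * z * d)) * a⁻¹ = 1 := by rw [← hXd2, e1]; group
        rwa [conj_eq_one_iff] at h1
      · rw [← h.trace_conj _ a, ← e1, trXd]
    · refine hswap (b * z) (hmul zS (h.kk_mem _ _)).1 ?_ ?_
      · rw [mul_assoc, ← mul_assoc z, hzb, mul_assoc b z, z2, mul_one, b2]
      · rw [← hrb, h.trace_conj, trb]
  rcases h.involution_cases zK (h.det_omega (ov.le zM)) z2 z1 with
    ⟨m, hm, rfl⟩ | ⟨m, hm, rfl⟩ | ⟨m, n, hm, hn, rfl⟩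
  · exact ov.mem_Kr_of_commute XM hzX.symm (Or.inl ⟨m, hm, rfl⟩)
  · exact ov.mem_Kr_of_commute XM hzX.symm (Or.inr ⟨m, hm, rfl⟩)
  obtain ⟨c0, c0'⟩ := h.commute_components hk hm hzd
  obtain ⟨c1, c1'⟩ := h.commute_components (he.1 1) hm hzb
  obtain ⟨i, hi⟩ := exists_axis h.fac he hm c0 c1
  obtain ⟨j, hj⟩ := exists_axis h.fac hf hn c0' c1'
  have hij : Good B (e i) ↔ Good B (f j) := (h.rot_both (he.1 i) (hf.1 j)).1 (by rw [← hi, ← hj]; exact ov.le zM)
  have hXzd : X * (h.kk (ht h.fac (e i), ht h.fac (f j)) * d) = h.kk (ht h.fac (e i), ht h.fac (f j)) * d * X := by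
    rw [← hi, ← hj]
    exact (Commute.mul_right (show Commute X _ from hzX.symm) (show Commute X d from hdX.symm)).eq
  rw [hi, hj] at hzX hcases
  obtain rfl | rfl | rfl : i = 0 ∨ i = 1 ∨ i = 2 := by omega
  · obtain rfl | rfl | rfl : j = 0 ∨ j = 1 ∨ j = 2 := by omega
    · exfalso
      refine h.one_ne_neg_three ?_
      rcases hcases with ⟨a, -, -, hconj⟩ | ⟨r, -, -, -, hrX⟩
      · rw [← trX, ← hconj, h.trace_conj, ← hd, hb, hd, h.kk_mul, p10, q10, h.trace_both (he.1 2) (hf.1 2)]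
      · rw [← trXd, hd, ← hrX, h.trace_conj, trX]
    · exact absurd (hij.2 f1) gk
    · refine ov.mem_Kr_of_commute XM hXzd (Or.inr ⟨f 1, hf.1 1, ?_⟩)
      rw [hd, h.kk_mul, ht_sq h.fac hk, q20]
  · obtain rfl | rfl | rfl : j = 0 ∨ j = 1 ∨ j = 2 := by omega
    · exact absurd (hij.1 g1) gl
    · exact finish (ov.mem_wr_of_commute_good (he.1 1) (hf.1 1) g1 f1 XM hzX.symm)
    · exact absurd (hij.1 g1) f2
  · obtain rfl | rfl | rfl : j = 0 ∨ j = 1 ∨ j = 2 := by omega
    · refine ov.mem_Kr_of_commute XM hXzd (Or.inl ⟨e 1, he.1 1, ?_⟩)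
      rw [hd, h.kk_mul, ht_sq h.fac hl, p20]
    · exact absurd (hij.2 f1) g2
    · refine finish (ov.mem_wr_of_commute_good (he.1 1) (hf.1 1) g1 f1 XM ?_)
      rwa [hd, h.kk_mul, p20, q20] at hXzd

/-- Every element of a proper overgroup is in the stabiliser. -/
theorem mem_wr {g : Isom Q} (hg : g ∈ M) : g ∈ h.wr := by
  obtain ⟨e, he, ge⟩ := exists_good_frame h.fac
  set t := h.kk (ht h.fac (e 0), 1) with ht'
  have tM : t ∈ M := ov.rot_left_mem (he.1 0) (ge 0)
  have t2 : t * t = 1 := h.sq_one (ht_sq h.fac (he.1 0)) (one_mul 1)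
  have key : ∀ i, g * h.kk (ht h.fac (e i), ht h.fac (e 0)) * g⁻¹ ∈ Kr Q := by
    intro i
    set b := h.kk (ht h.fac (e i), ht h.fac (e 0)) with hb
    set y := g * b * g⁻¹ with hy
    have bM : b ∈ M := ov.rot_both_mem (he.1 i) (he.1 0) (iff_of_true (ge i) (ge 0))
    have yM : y ∈ M := mul_mem (mul_mem hg bM) (inv_mem hg)
    have y2 : y * y = 1 := by
      rw [hy, show g * b * g⁻¹ * (g * b * g⁻¹) = g * (b * b) * g⁻¹ by group, hb,
        h.sq_one (ht_sq h.fac (he.1 i)) (ht_sq h.fac (he.1 0)), mul_one, mul_inv_cancel]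
    have try1 : (mat Q y).trace = 1 := by rw [hy, h.trace_conj, hb, h.trace_both (he.1 i) (he.1 0)]
    rcases dihedral_cases tM yM t2 y2 with ⟨a, -, -, hconj⟩ | ⟨z, zM, z2, z1, hzt, hzy, -, -⟩
    · exfalso
      refine h.one_ne_neg_three ?_
      rw [← try1, ← h.trace_left (he.1 0), ← ht', ← hconj, h.trace_conj]
    have zK : z ∈ Kr Q := ov.mem_Kr_of_commute_left (he.1 0) zM hzt
    rcases h.involution_cases zK (h.det_omega (ov.le zM)) z2 z1 with
      ⟨m, hm, rfl⟩ | ⟨m, hm, rfl⟩ | ⟨m, n, hm, hn, rfl⟩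
    · exact ov.mem_Kr_of_commute yM hzy.symm (Or.inl ⟨m, hm, rfl⟩)
    · exact ov.mem_Kr_of_commute yM hzy.symm (Or.inr ⟨m, hm, rfl⟩)
    · exact h.mem_Kr_of_trace_one
        (ov.mem_wr_of_commute_pair hm hn ((h.rot_both hm hn).1 (ov.le zM)) yM hzy.symm) y2 try1
  refine ov.mem_wr_of_conj_left (he.1 2) (ge 2) hg ?_
  have e2 : h.kk (ht h.fac (e 2), 1) =
      h.kk (ht h.fac (e 0), ht h.fac (e 0)) * h.kk (ht h.fac (e 1), ht h.fac (e 0)) := by
    rw [h.kk_mul, ht_sq h.fac (he.1 0),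
      ht_mul_ht h.fac he (i := 0) (j := 1) (l := 2) (by decide) (by decide) (by decide)]
  rw [e2, conj_mul.symm]
  exact mul_mem (key 0) (key 1)

end Ovg

end CfsgLib.OrthNineTensor
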