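import Cfsg.Agent.TensorOrthSlice.Main
import Cfsg.Agent.LinearElements.OrthSquareScalar

/-!
# Three-dimensional orthogonal geometry: frames, half-turns, their classes

* `ht`: the half-turn about a non-singular vector.
* `exists_ht_of_involution`: the involutions of `SO₃` are the half-turns.
* `Good`: the half-turns with square spinor norm.
-/

set_option autoImplicit false
set_option linter.unusedSectionVars false

namespace CfsgLib.OrthNineTensor

open Matrix Module CfsgLib.TensorOrth CfsgLib.TensorSlice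

variable {F : Type*} [Field F] {B : LinearMap.BilinForm F (Fin 3 → F)}

/-- The matrix of an isometry. -/
abbrev mt (S : isoG B) : Matrix (Fin 3) (Fin 3) F := ((S.1 : GL (Fin 3) F) : Matrix (Fin 3) (Fin 3) F)

theorem mt_mul (S T : isoG B) : mt (S * T) = mt S * mt T := rfl

theorem mt_one : mt (1 : isoG B) = 1 := rfl

theorem mt_mul_mulVec (S T : isoG B) (x : Fin 3 → F) : mt (S * T) *ᵥ x = mt S *ᵥ (mt T *ᵥ x) := by
  rw [mt_mul, mulVec_mulVec]

theorem mt_inv_mulVec (S : isoG B) (x : Fin 3 → F) : mt S⁻¹ *ᵥ (mt S *ᵥ x) = x := by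
  rw [← mt_mul_mulVec, inv_mul_cancel, mt_one, one_mulVec]

theorem mt_mulVec_inv (S : isoG B) (x : Fin 3 → F) : mt S *ᵥ (mt S⁻¹ *ᵥ x) = x := by
  rw [← mt_mul_mulVec, mul_inv_cancel, mt_one, one_mulVec]

theorem isoG_ext' {S T : isoG B} (e : ∀ x, mt S *ᵥ x = mt T *ᵥ x) : S = T :=
  Subtype.ext (Units.ext (Matrix.ext_iff_mulVec.2 e))

theorem mt_injective {S T : isoG B} (e : mt S = mt T) : S = T := Subtype.ext (Units.ext e)

/-- `-1`. -/
def negOne (B : LinearMap.BilinForm F (Fin 3 → F)) : isoG B :=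
  ⟨-1, fun x y => by simp [Units.val_neg, neg_mulVec]⟩

theorem negOne_mulVec (x : Fin 3 → F) : mt (negOne B) *ᵥ x = -x := by
  show ((-1 : GL (Fin 3) F) : Matrix (Fin 3) (Fin 3) F) *ᵥ x = -x
  rw [Units.val_neg, Units.val_one, neg_mulVec, one_mulVec]

/-- Eigenvalues on a basis give determinant and trace. -/
theorem det_trace_of_eigen {e : Fin 3 → Fin 3 → F} (he : LinearIndependent F e) (A : Matrix (Fin 3) (Fin 3) F)
    {μ : Fin 3 → F} (h : ∀ i, A *ᵥ e i = μ i • e i) :
    A.det = μ 0 * μ 1 * μ 2 ∧ A.trace = μ 0 + μ 1 + μ 2 := by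
  set b := basisOfLinearIndependentOfCardEqFinrank he (by simp) with hb
  have hbe : ⇑b = e := coe_basisOfLinearIndependentOfCardEqFinrank he _
  have hm : LinearMap.toMatrix b b (Matrix.toLin' A) = Matrix.diagonal μ := by
    ext i j
    rw [LinearMap.toMatrix_apply, Matrix.toLin'_apply, congrFun hbe j, h j, ← congrFun hbe j, map_smul,
      Basis.repr_self, Finsupp.smul_single, smul_eq_mul, mul_one, Matrix.diagonal_apply, Finsupp.single_apply]
    rcases eq_or_ne i j with rfl | hij
    · simp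
    · simp [hij, hij.symm]
  constructor
  · rw [← LinearMap.det_toLin', ← LinearMap.det_toMatrix b, hm, det_diagonal, Fin.prod_univ_three]
  · rw [← Matrix.trace_toLin'_eq, LinearMap.trace_eq_matrix_trace F b, hm, trace_diagonal, Fin.sum_univ_three]

theorem orth_indep {e : Fin 3 → Fin 3 → F} (he : IsOrth B e) : LinearIndependent F e :=
  LinearMap.BilinForm.linearIndependent_of_iIsOrtho (B := B) (fun i j hij => he.2 i j hij) fun i => he.1 i

theorem ext_of_indep {e : Fin 3 → Fin 3 → F} (he : LinearIndependent F e) {M : Type*} [AddCommGroup M] [Module F M]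
    {f g : (Fin 3 → F) →ₗ[F] M} (h : ∀ i, f (e i) = g (e i)) : f = g :=
  (basisOfLinearIndependentOfCardEqFinrank he (by simp)).ext fun i => by
    rw [coe_basisOfLinearIndependentOfCardEqFinrank]
    exact h i

/-- Isometries agreeing on a basis are equal. -/
theorem isoG_ext_indep {e : Fin 3 → Fin 3 → F} (he : LinearIndependent F e) {S T : isoG B}
    (h : ∀ i, mt S *ᵥ e i = mt T *ᵥ e i) : S = T :=
  isoG_ext' fun x => LinearMap.congr_fun
    (ext_of_indep he (f := Matrix.mulVecLin (mt S)) (g := Matrix.mulVecLin (mt T)) h) x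

variable (hB : Fac B 1)
include hB

theorem sym (x y : Fin 3 → F) : B x y = B y x := by rw [hB.symm, one_mul]

theorem two_ne : (2 : F) ≠ 0 := by
  rcases hB.kind with ⟨-, h⟩ | ⟨h, ha⟩
  · exact h
  · intro h2
    set G := LinearMap.BilinForm.toMatrix' B with hG
    have hG0 : G.det ≠ 0 := by
      rw [← LinearMap.BilinForm.nondegenerate_toBilin'_iff_det_ne_zero, hG, Matrix.toBilin'_toMatrix']
      exact hB.nondeg
    have hd : ∀ i, G i i = 0 := fun i => by rw [hG, LinearMap.BilinForm.toMatrix'_apply]; exact ha _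
    have hs : ∀ i j, G j i = G i j := fun i j => by
      rw [hG, LinearMap.BilinForm.toMatrix'_apply, LinearMap.BilinForm.toMatrix'_apply]
      exact sym hB _ _
    refine hG0 ?_
    rw [det_fin_three, hd 0, hd 1, hd 2, hs 0 1, hs 0 2, hs 1 2]
    linear_combination G 0 1 * G 0 2 * G 1 2 * h2

/-- The orthogonal of a basis is zero. -/
theorem eq_zero_of_pair {e : Fin 3 → Fin 3 → F} (he : LinearIndependent F e) {x : Fin 3 → F}
    (h : ∀ i, B x (e i) = 0) : x = 0 :=
  hB.sep fun y => LinearMap.congr_fun (ext_of_indep he (f := B x) (g := 0) h) y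

/-- The half-turn about a vector. -/
noncomputable def ht (k : Fin 3 → F) : isoG B :=
  haveI := Classical.propDecidable (B k k ≠ 0)
  if h : B k k ≠ 0 then negOne B * ⟨(hB.exists_refl rfl h).choose, (hB.exists_refl rfl h).choose_spec.1⟩ else 1

theorem ht_apply {k : Fin 3 → F} (hk : B k k ≠ 0) (x : Fin 3 → F) :
    mt (ht hB k) *ᵥ x = (2 * B x k / B k k) • k - x := by
  rw [ht, dif_pos hk, mt_mul_mulVec, negOne_mulVec, (hB.exists_refl rfl hk).choose_spec.2 x, neg_sub]

theorem ht_self {k : Fin 3 → F} (hk : B k k ≠ 0) : mt (ht hB k) *ᵥ k = k := by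
  rw [ht_apply hB hk, mul_div_assoc, div_self hk, mul_one, two_smul, add_sub_cancel_right]

theorem ht_perp {k x : Fin 3 → F} (hk : B k k ≠ 0) (hx : B x k = 0) : mt (ht hB k) *ᵥ x = -x := by
  rw [ht_apply hB hk, hx, mul_zero, zero_div, zero_smul, zero_sub]

theorem ht_sq {k : Fin 3 → F} (hk : B k k ≠ 0) : ht hB k * ht hB k = 1 := by
  refine isoG_ext' fun x => ?_
  rw [mt_mul_mulVec, ht_apply hB hk x, mulVec_sub, mulVec_smul, ht_self hB hk, ht_apply hB hk x, mt_one, one_mulVec,
    sub_sub_cancel]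

theorem ht_smul {k : Fin 3 → F} (hk : B k k ≠ 0) {s : F} (hs : s ≠ 0) : ht hB (s • k) = ht hB k := by
  have hk' : B (s • k) (s • k) ≠ 0 := by simp [hk, hs]
  refine isoG_ext' fun x => ?_
  rw [ht_apply hB hk', ht_apply hB hk, smul_smul]
  simp only [map_smul, LinearMap.smul_apply, smul_eq_mul]
  congr 2
  field_simp

theorem value_mulVec (T : isoG B) (x y : Fin 3 → F) : B (mt T *ᵥ x) (mt T *ᵥ y) = B x y := T.2 x y

theorem ht_conj (T : isoG B) {k : Fin 3 → F} (hk : B k k ≠ 0) : T * ht hB k * T⁻¹ = ht hB (mt T *ᵥ k) := by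
  rw [mul_inv_eq_iff_eq_mul]
  refine isoG_ext' fun x => ?_
  have hk' : B (mt T *ᵥ k) (mt T *ᵥ k) ≠ 0 := by rwa [value_mulVec hB]
  rw [mt_mul_mulVec, mt_mul_mulVec, ht_apply hB hk, ht_apply hB hk', value_mulVec hB, value_mulVec hB, mulVec_sub,
    mulVec_smul]

/-- An orthogonal frame through two orthogonal non-singular vectors. -/
theorem exists_frame {k m : Fin 3 → F} (hk : B k k ≠ 0) (hm : B m m ≠ 0) (hkm : B k m = 0) :
    ∃ e : Fin 3 → Fin 3 → F, IsOrth B e ∧ e 0 = k ∧ e 1 = m := by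
  obtain ⟨n, hn, hn0⟩ : ∃ n, n ∈ perp B ![k, m] ∧ n ≠ 0 := by
    have := TensorSlice.finrank_perp B ![k, m]
    exact Submodule.exists_mem_ne_zero_of_ne_bot fun h => by rw [h, finrank_bot] at this; omega
  rw [mem_perp] at hn
  have hnk : B n k = 0 := by simpa using hn 0
  have hnm : B n m = 0 := by simpa using hn 1
  have hnn : B n n ≠ 0 := by
    intro h0
    refine hn0 (eq_zero_of_pair hB (e := ![k, m, n]) ?_ fun i => ?_)
    · rw [Fintype.linearIndependent_iff]
      intro g hg
      simp only [Fin.sum_univ_three, Matrix.cons_val_zero, Matrix.cons_val_one, Matrix.cons_val] at hg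
      have e0 := congrArg (fun w => B w k) hg
      have e1 := congrArg (fun w => B w m) hg
      simp only [map_add, map_smul, LinearMap.add_apply, LinearMap.smul_apply, smul_eq_mul, sym hB m k, hkm, hnk,
        hnm, map_zero, LinearMap.zero_apply, mul_zero, add_zero, zero_add, mul_eq_zero, hk, hm, or_false] at e0 e1
      have e2 : g 2 = 0 := by
        simp only [e0, e1, zero_smul, zero_add, smul_eq_zero] at hg
        exact hg.resolve_right hn0
      intro i
      fin_cases i <;> assumption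
    · fin_cases i <;> simpa
  refine ⟨![k, m, n], ⟨fun i => ?_, fun i j hij => ?_⟩, rfl, rfl⟩
  · fin_cases i <;> simpa
  · fin_cases i <;> fin_cases j <;>
      simp_all [sym hB m k, sym hB k n, sym hB m n]

omit hB in
theorem orth_perm {e : Fin 3 → Fin 3 → F} (he : IsOrth B e) (π : Equiv.Perm (Fin 3)) : IsOrth B (e ∘ π) :=
  ⟨fun i => he.1 _, fun _ _ hij => he.2 _ _ fun h => hij (π.injective h)⟩

theorem ht_frame {e : Fin 3 → Fin 3 → F} (he : IsOrth B e) (i j : Fin 3) :
    mt (ht hB (e i)) *ᵥ e j = (if i = j then (1 : F) else -1) • e j := by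
  rcases eq_or_ne i j with rfl | hij
  · rw [if_pos rfl, one_smul, ht_self hB (he.1 i)]
  · rw [if_neg hij, ht_perp hB (he.1 i) (he.2 j i hij.symm), neg_one_smul]

theorem exists_frame_of (k : Fin 3 → F) (hk : B k k ≠ 0) : ∃ e : Fin 3 → Fin 3 → F, IsOrth B e ∧ e 0 = k := by
  have h2 := two_ne hB
  obtain ⟨a, ha, ha0⟩ : ∃ a, B a k = 0 ∧ B a a ≠ 0 := by
    by_contra! hcon
    obtain ⟨v, hv⟩ := exists_orth_basis hB h2
    have key : ∀ x y, B x k = 0 → B y k = 0 → B x y = 0 := fun x y hx hy => by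
      have h := hcon (x + y) (by rw [map_add, LinearMap.add_apply, hx, hy, add_zero])
      simp only [map_add, LinearMap.add_apply, hcon x hx, hcon y hy, sym hB y x, zero_add, add_zero] at h
      exact (mul_eq_zero.1 ((two_mul _).trans h)).resolve_left h2
    have hproj : ∀ x, x - (B x k / B k k) • k = 0 := fun x => hB.sep fun y => by
      have h1 : B (x - (B x k / B k k) • k) k = 0 := by simp [hk]
      have h3 : B (y - (B y k / B k k) • k) k = 0 := by simp [hk]
      have := key _ _ h1 h3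
      rwa [map_sub (B (x - (B x k / B k k) • k)), map_smul (B (x - (B x k / B k k) • k)), h1, smul_zero,
        sub_zero] at this
    have h0 := hv.2 0 1 (by decide)
    have e0 := sub_eq_zero.1 (hproj (v 0))
    have e1 := sub_eq_zero.1 (hproj (v 1))
    rw [e0, e1] at h0
    simp only [map_smul, LinearMap.smul_apply, smul_eq_mul, mul_eq_zero, hk, or_false] at h0
    rcases h0 with h0 | h0
    · rcases div_eq_zero_iff.1 h0 with h | h
      · exact hv.1 1 (by rw [e1, h]; simp)
      · exact hk h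
    · rcases div_eq_zero_iff.1 h0 with h | h
      · exact hv.1 0 (by rw [e0, h]; simp)
      · exact hk h
  obtain ⟨e, he, he0, -⟩ := exists_frame hB hk ha0 (by rw [sym hB]; exact ha)
  exact ⟨e, he, he0⟩

theorem ht_det_trace {k : Fin 3 → F} (hk : B k k ≠ 0) :
    (mt (ht hB k)).det = 1 ∧ (mt (ht hB k)).trace = -1 := by
  obtain ⟨e, he, rfl⟩ := exists_frame_of hB k hk
  obtain ⟨h1, h2⟩ := det_trace_of_eigen (orth_indep he) (mt (ht hB (e 0))) (ht_frame hB he 0)
  rw [h1, h2, if_pos rfl, if_neg (by decide), if_neg (by decide)]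
  constructor <;> ring

theorem ht_ne_one {k : Fin 3 → F} (hk : B k k ≠ 0) : ht hB k ≠ 1 := by
  obtain ⟨e, he, rfl⟩ := exists_frame_of hB k hk
  intro h
  have h1 := ht_frame hB he 0 1
  rw [h, mt_one, one_mulVec, if_neg (by decide), neg_one_smul, eq_neg_iff_add_eq_zero, ← two_smul F,
    smul_eq_zero] at h1
  exact he.1 1 (by simp [h1.resolve_left (two_ne hB)])

theorem ht_mul_ht {e : Fin 3 → Fin 3 → F} (he : IsOrth B e) {i j l : Fin 3} (hij : i ≠ j) (hil : i ≠ l)
    (hjl : j ≠ l) : ht hB (e i) * ht hB (e j) = ht hB (e l) := by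
  refine isoG_ext_indep (orth_indep he) fun m => ?_
  rw [mt_mul_mulVec, ht_frame hB he, mulVec_smul, ht_frame hB he, ht_frame hB he, smul_smul]
  congr 1
  obtain rfl | rfl | rfl : m = i ∨ m = j ∨ m = l := by omega
  · simp [hij.symm, hil.symm]
  · simp [hij, hjl.symm]
  · simp [hil, hjl]

/-- Commuting with a half-turn fixes its axis. -/
theorem axis_of_commute {k : Fin 3 → F} (hk : B k k ≠ 0) {S : isoG B} (h : S * ht hB k = ht hB k * S) :
    mt S *ᵥ k = k ∨ mt S *ᵥ k = -k := by
  have h1 := congrArg (fun U => mt U *ᵥ k) h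
  simp only [mt_mul_mulVec, ht_self hB hk] at h1
  rw [ht_apply hB hk, eq_sub_iff_add_eq, ← two_smul F] at h1
  set r := B (mt S *ᵥ k) k / B k k with hr
  have h3 : mt S *ᵥ k = r • k := by
    refine smul_right_injective _ (two_ne hB) ?_
    show (2 : F) • (mt S *ᵥ k) = (2 : F) • r • k
    rw [h1, hr, smul_smul, mul_div_assoc]
  have h4 := value_mulVec hB S k k
  rw [h3] at h4
  simp only [map_smul, LinearMap.smul_apply, smul_eq_mul] at h4
  have h5 : r * r = 1 := mul_right_cancel₀ hk (by linear_combination h4)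
  rcases mul_self_eq_one_iff.1 h5 with h6 | h6
  · exact Or.inl (by rw [h3, h6, one_smul])
  · exact Or.inr (by rw [h3, h6, neg_one_smul])

/-- Commuting half-turns are equal or orthogonal. -/
theorem commute_cases {k m : Fin 3 → F} (hk : B k k ≠ 0) (hm : B m m ≠ 0)
    (h : ht hB m * ht hB k = ht hB k * ht hB m) : ht hB m = ht hB k ∨ B k m = 0 := by
  rcases axis_of_commute hB hk h with h' | h'
  · rw [ht_apply hB hm, sub_eq_iff_eq_add, ← two_smul F] at h'
    have h3 : k = (B k m / B m m) • m := by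
      refine smul_right_injective _ (two_ne hB) ?_
      show (2 : F) • k = (2 : F) • (B k m / B m m) • m
      rw [← h', smul_smul, mul_div_assoc]
    have h4 : B k m / B m m ≠ 0 := fun h0 => hk (by rw [h3, h0]; simp)
    refine Or.inl ?_
    conv_rhs => rw [h3, ht_smul hB hm h4]
  · rw [ht_apply hB hm, sub_eq_neg_self, smul_eq_zero] at h'
    refine Or.inr (h'.elim (fun h'' => ?_) fun h'' => absurd (by simp [h'']) hm)
    simpa [two_ne hB, hm] using h''

/-- A non-singular fixed vector orthogonal to `k`, from any fixed one. -/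
theorem exists_fixed_anisotropic {S : isoG B} (hS : S * S = 1) {k p : Fin 3 → F}
    (hk : k = 0 ∨ B k k ≠ 0) (hSk : mt S *ᵥ k = k) (hp : p ≠ 0) (hSp : mt S *ᵥ p = p) (hpk : B p k = 0) :
    ∃ a, B a k = 0 ∧ mt S *ᵥ a = a ∧ B a a ≠ 0 := by
  have h2 := two_ne hB
  by_cases hpp : B p p ≠ 0
  · exact ⟨p, hpk, hSp, hpp⟩
  push Not at hpp
  obtain ⟨w, hw⟩ := hB.exists_one hp
  set v := w - (B w k / B k k) • k with hv
  have hvk : B v k = 0 := by
    rcases hk with rfl | hk <;> simp [hv, *]
  have hvp : B v p = 1 := by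
    simp [hv, hw, sym hB k p, hpk]
  set u := v + mt S *ᵥ v with hu
  have hSS : ∀ x, mt S *ᵥ (mt S *ᵥ x) = x := fun x => by rw [← mt_mul_mulVec, hS, mt_one, one_mulVec]
  have hSu : mt S *ᵥ u = u := by rw [hu, mulVec_add, hSS, add_comm]
  have h1 : B (mt S *ᵥ v) k = 0 := by rw [← hSk, value_mulVec hB, hvk]
  have h3 : B (mt S *ᵥ v) p = 1 := by rw [← hSp, value_mulVec hB, hvp]
  have huk : B u k = 0 := by simp [hu, hvk, h1]
  have hup : B u p = 2 := by simp [hu, hvp, h3, one_add_one_eq_two]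
  by_cases huu : B u u ≠ 0
  · exact ⟨u, huk, hSu, huu⟩
  push Not at huu
  refine ⟨u + p, by simp [huk, hpk], by rw [mulVec_add, hSu, hSp], ?_⟩
  simp only [map_add, LinearMap.add_apply, huu, hpp, hup, sym hB p u, zero_add, add_zero]
  exact fun h => h2 ((mul_eq_zero.1 ((two_mul _).trans h)).resolve_left h2)

/-- The involutions of `SO₃` are half-turns. -/
theorem exists_ht_of_involution {S : isoG B} (hS : S * S = 1) (hd : (mt S).det = 1) (hS1 : S ≠ 1) :
    ∃ k, B k k ≠ 0 ∧ S = ht hB k := by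
  have h2 := two_ne hB
  have hm : mt S * mt S = 1 := congrArg mt hS
  obtain ⟨v, hv0, hv⟩ : ∃ v : Fin 3 → F, v ≠ 0 ∧ (mt S - 1) *ᵥ v = 0 := by
    rw [Matrix.exists_mulVec_eq_zero_iff]
    have e : mt S - 1 = mt S * -(mt S - 1) := by rw [neg_sub, mul_sub, mul_one, hm]
    have h := congrArg Matrix.det e
    rw [det_mul, hd, one_mul, det_neg, Fintype.card_fin] at h
    exact (mul_eq_zero.1 (show 2 * (mt S - 1).det = 0 by linear_combination h)).resolve_left h2
  rw [sub_mulVec, one_mulVec, sub_eq_zero] at hv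
  obtain ⟨k, -, hk1, hk⟩ := exists_fixed_anisotropic hB hS (Or.inl rfl) (mulVec_zero _) hv0 hv (map_zero _)
  refine ⟨k, hk, ?_⟩
  by_contra hne
  have hSS : ∀ x, mt S *ᵥ (mt S *ᵥ x) = x := fun x => by rw [← mt_mul_mulVec, hS, mt_one, one_mulVec]
  obtain ⟨p, hpk, hp0, hp⟩ : ∃ p, B p k = 0 ∧ p ≠ 0 ∧ mt S *ᵥ p = p := by
    by_contra! hcon
    refine hne (isoG_ext' fun x => ?_)
    set x' := x - (B x k / B k k) • k with hx'
    have hx'k : B x' k = 0 := by simp [hx', hk]
    have h1 : B (mt S *ᵥ x') k = 0 := by rw [← hk1, value_mulVec hB, hx'k]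
    have h3 : x' + mt S *ᵥ x' = 0 := by
      by_contra h0
      exact hcon _ (by simp [hx'k, h1]) h0 (by rw [mulVec_add, hSS, add_comm])
    rw [ht_apply hB hk]
    have h4 : mt S *ᵥ x = (B x k / B k k) • k + mt S *ᵥ x' := by
      rw [hx', mulVec_sub, mulVec_smul, hk1]; abel
    rw [h4, show mt S *ᵥ x' = -x' by linear_combination (norm := module) h3, hx', mul_div_assoc, two_mul, add_smul]
    abel
  obtain ⟨a, hak, ha1, ha⟩ := exists_fixed_anisotropic hB hS (Or.inr hk) hk1 hp0 hp hpk
  obtain ⟨e, he, he0, he1⟩ := exists_frame hB hk ha (by rw [sym hB]; exact hak)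
  have hperp : ∀ i, i ≠ 2 → B (mt S *ᵥ e 2) (e i) = 0 := fun i hi => by
    have hfix : mt S *ᵥ e i = e i := by
      obtain rfl | rfl : i = 0 ∨ i = 1 := by omega
      · rw [he0, hk1]
      · rw [he1, ha1]
    rw [← hfix, value_mulVec hB, he.2 2 i hi.symm]
  set r := B (mt S *ᵥ e 2) (e 2) / B (e 2) (e 2) with hr
  have h3 : mt S *ᵥ e 2 = r • e 2 := by
    refine sub_eq_zero.1 (eq_zero_of_pair hB (orth_indep he) fun i => ?_)
    rcases eq_or_ne i 2 with rfl | hi
    · simp [hr, he.1 2]
    · simp [hperp i hi, he.2 2 i hi.symm]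
  obtain ⟨hdet, -⟩ := det_trace_of_eigen (orth_indep he) (mt S) (μ := ![1, 1, r]) fun i => by
    fin_cases i
    · simp [he0, hk1]
    · simp [he1, ha1]
    · simpa using h3
  rw [hd] at hdet
  simp only [Matrix.cons_val_zero, Matrix.cons_val_one, Matrix.cons_val, one_mul] at hdet
  refine hS1 (isoG_ext_indep (orth_indep he) fun i => ?_)
  rw [mt_one, one_mulVec]
  fin_cases i
  · simp [he0, hk1]
  · simp [he1, ha1]
  · simpa [← hdet] using h3

/-! ### Classes -/

omit hB in
/-- The half-turn about `k` has square spinor norm. -/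
def Good (B : LinearMap.BilinForm F (Fin 3 → F)) (k : Fin 3 → F) : Prop :=
  IsSquare ((LinearMap.BilinForm.toMatrix' B).det * B k k)

theorem disc_ne_zero : (LinearMap.BilinForm.toMatrix' B).det ≠ 0 := by
  rw [← LinearMap.BilinForm.nondegenerate_toBilin'_iff_det_ne_zero, Matrix.toBilin'_toMatrix']
  exact hB.nondeg

theorem frame_disc {e : Fin 3 → Fin 3 → F} (he : IsOrth B e) :
    IsSquare ((LinearMap.BilinForm.toMatrix' B).det * (B (e 0) (e 0) * B (e 1) (e 1) * B (e 2) (e 2))) := by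
  set G := LinearMap.BilinForm.toMatrix' B with hG
  set P : Matrix (Fin 3) (Fin 3) F := Matrix.of fun i j => e j i with hP
  have h : LinearMap.BilinForm.toMatrix' (B.comp (Matrix.toLin' P) (Matrix.toLin' P))
      = Matrix.diagonal fun i => B (e i) (e i) := by
    ext i j
    have hcol : ∀ l, P *ᵥ Pi.single l 1 = e l := fun l => by
      rw [mulVec_single_one]; rfl
    rw [LinearMap.BilinForm.toMatrix'_apply, LinearMap.BilinForm.comp_apply, Matrix.toLin'_apply,
      Matrix.toLin'_apply, hcol, hcol, Matrix.diagonal_apply]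
    rcases eq_or_ne i j with rfl | hij
    · simp
    · rw [if_neg hij, he.2 i j hij]
  rw [LinearMap.BilinForm.toMatrix'_comp, LinearMap.toMatrix'_toLin', ← hG] at h
  have h' := congrArg Matrix.det h
  rw [det_mul, det_mul, det_transpose, det_diagonal, Fin.prod_univ_three] at h'
  exact ⟨G.det * P.det, by rw [← h']; ring⟩

variable [Fintype F]

theorem good_mulVec (T : isoG B) (k : Fin 3 → F) : Good B (mt T *ᵥ k) ↔ Good B k := by
  rw [Good, Good, value_mulVec hB]

theorem good_smul {k : Fin 3 → F} (hk : B k k ≠ 0) {s : F} (hs : s ≠ 0) : Good B (s • k) ↔ Good B k := by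
  have e : (LinearMap.BilinForm.toMatrix' B).det * B (s • k) (s • k)
      = (LinearMap.BilinForm.toMatrix' B).det * B k k * (s * s) := by
    simp only [map_smul, LinearMap.smul_apply, smul_eq_mul]; ring
  rw [Good, Good, e, OrthSquareScalar.isSquare_mul_iff (mul_ne_zero (disc_ne_zero hB) hk) (mul_ne_zero hs hs)]
  simp

theorem good_iff_mul {e : Fin 3 → Fin 3 → F} (he : IsOrth B e) :
    Good B (e 0) ↔ IsSquare (B (e 1) (e 1) * B (e 2) (e 2)) := by
  have h := frame_disc hB he
  rw [show (LinearMap.BilinForm.toMatrix' B).det * (B (e 0) (e 0) * B (e 1) (e 1) * B (e 2) (e 2))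
    = (LinearMap.BilinForm.toMatrix' B).det * B (e 0) (e 0) * (B (e 1) (e 1) * B (e 2) (e 2)) by ring,
    OrthSquareScalar.isSquare_mul_iff (mul_ne_zero (disc_ne_zero hB) (he.1 0))
      (mul_ne_zero (he.1 1) (he.1 2))] at h
  exact h

theorem good_third {e : Fin 3 → Fin 3 → F} (he : IsOrth B e) :
    Good B (e 2) ↔ (Good B (e 0) ↔ Good B (e 1)) := by
  set D := (LinearMap.BilinForm.toMatrix' B).det
  have hD : D ≠ 0 := disc_ne_zero hB
  have h : IsSquare (D * B (e 0) (e 0) * (D * B (e 1) (e 1)) * (D * B (e 2) (e 2))) := by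
    obtain ⟨r, hr⟩ := frame_disc hB he
    exact ⟨D * r, by linear_combination D * D * hr⟩
  have h0 := mul_ne_zero hD (he.1 0)
  have h1 := mul_ne_zero hD (he.1 1)
  rw [OrthSquareScalar.isSquare_mul_iff (mul_ne_zero h0 h1) (mul_ne_zero hD (he.1 2)),
    OrthSquareScalar.isSquare_mul_iff h0 h1] at h
  exact h.symm

theorem exists_perp_value {k : Fin 3 → F} (hk : B k k ≠ 0) (t : F) : ∃ a, B a k = 0 ∧ B a a = t := by
  obtain ⟨e, he, rfl⟩ := exists_frame_of hB k hk
  have h2 := two_ne hB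
  have hd1 : (Polynomial.C (B (e 1) (e 1)) * Polynomial.X ^ 2 : Polynomial F).degree = 2 :=
    Polynomial.degree_C_mul_X_pow 2 (he.1 1)
  have hd2 : (Polynomial.C (B (e 2) (e 2)) * Polynomial.X ^ 2 - Polynomial.C t : Polynomial F).degree = 2 := by
    rw [Polynomial.degree_sub_C (by rw [Polynomial.degree_C_mul_X_pow 2 (he.1 2)]; decide),
      Polynomial.degree_C_mul_X_pow 2 (he.1 2)]
    rfl
  have hcard : Fintype.card F % 2 = 1 := FiniteField.odd_card_of_char_ne_two fun h => h2 (by
    have := ringChar.Nat.cast_ringChar (R := F)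
    rw [h] at this
    exact_mod_cast this)
  obtain ⟨x, y, hxy⟩ := FiniteField.exists_root_sum_quadratic hd1 hd2 hcard
  simp only [Polynomial.eval_mul, Polynomial.eval_sub, Polynomial.eval_pow, Polynomial.eval_C,
    Polynomial.eval_X] at hxy
  refine ⟨x • e 1 + y • e 2, by simp [he.2 1 0 (by decide), he.2 2 0 (by decide)], ?_⟩
  simp only [map_add, map_smul, LinearMap.add_apply, LinearMap.smul_apply, smul_eq_mul, he.2 1 2 (by decide),
    he.2 2 1 (by decide)]
  linear_combination hxy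

/-- A frame through `k` whose second vector is good. -/
theorem exists_frame_good {k : Fin 3 → F} (hk : B k k ≠ 0) :
    ∃ e : Fin 3 → Fin 3 → F, IsOrth B e ∧ e 0 = k ∧ Good B (e 1) := by
  obtain ⟨a, hak, haa⟩ := exists_perp_value hB hk (LinearMap.BilinForm.toMatrix' B).det
  obtain ⟨e, he, he0, he1⟩ := exists_frame hB hk (m := a) (by rw [haa]; exact disc_ne_zero hB)
    (by rw [sym hB]; exact hak)
  refine ⟨e, he, he0, ?_⟩
  rw [he1, Good, haa]
  exact IsSquare.mul_self _

/-- A frame of good vectors. -/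
theorem exists_good_frame : ∃ e : Fin 3 → Fin 3 → F, IsOrth B e ∧ ∀ i, Good B (e i) := by
  obtain ⟨v, hv⟩ := exists_orth_basis hB (two_ne hB)
  obtain ⟨f, hf, -, hf1⟩ := exists_frame_good hB (hv.1 0)
  obtain ⟨e, he, he0, he1⟩ := exists_frame_good hB (hf.1 1)
  have h0 : Good B (e 0) := by rw [he0]; exact hf1
  refine ⟨e, he, fun i => ?_⟩
  fin_cases i
  · exact h0
  · exact he1
  · exact (good_third hB he).2 (iff_of_true h0 he1)

end CfsgLib.OrthNineTensor
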