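import Cfsg.Agent.OrthNineTensor.Frame

/-!
# Hyperbolic frames of a three-dimensional orthogonal space and their root elements
-/

set_option autoImplicit false
set_option linter.unusedSectionVars false

namespace CfsgLib.OrthNineTensor

open Matrix Module CfsgLib.TensorOrth CfsgLib.TensorSlice

variable {F : Type*} [Field F] {B : LinearMap.BilinForm F (Fin 3 → F)}

/-- A hyperbolic pair and a vector orthogonal to it. -/
structure Hyp (B : LinearMap.BilinForm F (Fin 3 → F)) (γ z δ : Fin 3 → F) : Prop where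
  fac : Fac B 1
  gg : B γ γ = 0
  dd : B δ δ = 0
  dg : B δ γ = 1
  zg : B z γ = 0
  zd : B z δ = 0
  zz : B z z ≠ 0

/-- The nilpotent generator of the root group at `γ`. -/
noncomputable def nM (B : LinearMap.BilinForm F (Fin 3 → F)) (γ z : Fin 3 → F) : Matrix (Fin 3) (Fin 3) F :=
  LinearMap.toMatrix' ((B.flip γ).smulRight z - (B.flip z).smulRight γ)

theorem nM_apply (γ z x : Fin 3 → F) : nM B γ z *ᵥ x = B x γ • z - B x z • γ := by
  rw [nM, LinearMap.toMatrix'_mulVec]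
  rfl

namespace Hyp

variable {γ z δ : Fin 3 → F} (H : Hyp B γ z δ)
include H

theorem two : (2 : F) ≠ 0 := two_ne H.fac

theorem gd : B γ δ = 1 := by rw [sym H.fac, H.dg]

theorem gz : B γ z = 0 := by rw [sym H.fac, H.zg]

theorem dz : B δ z = 0 := by rw [sym H.fac, H.zd]

theorem indep : LinearIndependent F ![γ, z, δ] := by
  rw [Fintype.linearIndependent_iff]
  intro g hg
  simp only [Fin.sum_univ_three, Matrix.cons_val_zero, Matrix.cons_val_one, Matrix.cons_val] at hg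
  have e0 := congrArg (fun w => B w δ) hg
  have e1 := congrArg (fun w => B w z) hg
  have e2 := congrArg (fun w => B w γ) hg
  simp only [map_add, map_smul, LinearMap.add_apply, LinearMap.smul_apply, smul_eq_mul, H.gd, H.zd, H.dd, H.gz, H.dz,
    H.gg, H.zg, H.dg, mul_zero, add_zero, zero_add, mul_one, map_zero, LinearMap.zero_apply, mul_eq_zero, H.zz,
    or_false] at e0 e1 e2
  intro i
  fin_cases i <;> assumption

theorem eq_zero {x : Fin 3 → F} (h1 : B x γ = 0) (h2 : B x z = 0) (h3 : B x δ = 0) : x = 0 :=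
  eq_zero_of_pair H.fac H.indep fun i => by fin_cases i <;> simpa

theorem expand (x : Fin 3 → F) : x = B x γ • δ + (B x z / B z z) • z + B x δ • γ := by
  refine sub_eq_zero.1 (H.eq_zero ?_ ?_ ?_) <;>
    simp [H.gd, H.zd, H.dd, H.gz, H.dz, H.gg, H.zg, H.dg, H.zz]

theorem gamma_ne : γ ≠ 0 := fun h => by simpa [h] using H.dg

theorem n_gamma : nM B γ z *ᵥ γ = 0 := by simp [nM_apply, H.gg, H.gz]

theorem n_z : nM B γ z *ᵥ z = -B z z • γ := by simp [nM_apply, H.zg]

theorem n_delta : nM B γ z *ᵥ δ = z := by simp [nM_apply, H.dg, H.dz]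

theorem n2_apply (x : Fin 3 → F) :
    (nM B γ z * nM B γ z) *ᵥ x = (-(B z z * B x γ)) • γ := by
  rw [← mulVec_mulVec, nM_apply γ z x, mulVec_sub, mulVec_smul, mulVec_smul, H.n_z, H.n_gamma]
  module

theorem n_cube : nM B γ z * nM B γ z * nM B γ z = 0 := Matrix.ext_iff_mulVec.2 fun x => by
  rw [← mulVec_mulVec, H.n2_apply, nM_apply, zero_mulVec]
  simp [H.gg, H.zg]

theorem n_cube' : nM B γ z * (nM B γ z * nM B γ z) = 0 := by rw [← mul_assoc, H.n_cube]

theorem sz_perp (s : F) : B (s • z) γ = 0 := by simp [H.zg]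

theorem param (s : F) : -(s * s * B z z) / 2 * (1 + 1) + B (s • z) (s • z) = 0 := by
  have h2 := H.two
  simp only [map_smul, LinearMap.smul_apply, smul_eq_mul, one_add_one_eq_two]
  field_simp
  ring

/-- The root element with parameter `s`. -/
noncomputable def eS (s : F) : isoG B :=
  ⟨H.fac.eGL H.gg (H.sz_perp s) (-(s * s * B z z) / 2),
    H.fac.rootSet_isom (H.fac.eGL_mem_rootSet H.gg (H.sz_perp s) (H.param s))⟩

theorem eS_mem (s : F) : (H.eS s).1 ∈ fgrp B 1 := H.fac.eGL_mem H.gg (H.sz_perp s) (H.param s)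

theorem eS_mat (s : F) :
    mt (H.eS s) = 1 + s • nM B γ z + (s * s / 2) • (nM B γ z * nM B γ z) := Matrix.ext_iff_mulVec.2 fun x => by
  rw [show mt (H.eS s) *ᵥ x = _ from H.fac.eGL_mulVec H.gg (H.sz_perp s) _ x, esie_apply, add_mulVec, add_mulVec,
    one_mulVec, smul_mulVec, smul_mulVec, H.n2_apply, nM_apply]
  simp only [map_smul, LinearMap.smul_apply, smul_eq_mul]
  module

theorem eS_gamma (s : F) : mt (H.eS s) *ᵥ γ = γ := by
  simp [H.eS_mat, add_mulVec, smul_mulVec, H.n2_apply, H.n_gamma, H.gg]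

theorem eS_z (s : F) : mt (H.eS s) *ᵥ z = z - (s * B z z) • γ := by
  simp only [H.eS_mat, add_mulVec, one_mulVec, smul_mulVec, H.n2_apply, H.n_z, H.zg]
  module

theorem eS_delta (s : F) : mt (H.eS s) *ᵥ δ = δ + s • z - (s * s * B z z / 2) • γ := by
  simp only [H.eS_mat, add_mulVec, one_mulVec, smul_mulVec, H.n2_apply, H.n_delta, H.dg]
  module

theorem eS_add (s t : F) : H.eS s * H.eS t = H.eS (s + t) := mt_injective (by
  have h2 := H.two
  rw [mt_mul, H.eS_mat, H.eS_mat, H.eS_mat]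
  simp only [mul_add, add_mul, one_mul, mul_one, Algebra.smul_mul_assoc, Algebra.mul_smul_comm, smul_smul,
    H.n_cube, H.n_cube', smul_zero, add_zero, ← mul_assoc, zero_mul]
  match_scalars <;> field_simp
  ring)

theorem eS_zero : H.eS 0 = 1 := mt_injective (by rw [H.eS_mat, mt_one]; simp)

theorem eS_neg (s : F) : (H.eS s)⁻¹ = H.eS (-s) :=
  inv_eq_of_mul_eq_one_right (by rw [H.eS_add, add_neg_cancel, H.eS_zero])

end Hyp

variable (hB : Fac B 1)
include hB

theorem exists_hyp_of {γ z : Fin 3 → F} (hγ0 : γ ≠ 0) (hγ : B γ γ = 0) (hzγ : B z γ = 0) (hz : B z z ≠ 0) :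
    ∃ δ, Hyp B γ z δ := by
  obtain ⟨d, hd, hdγ⟩ := hB.exists_partner hγ0 hγ
  set d' := d - (B d z / B z z) • z with hd'
  have h1 : B d' γ = 1 := by simp [hd', hdγ, hzγ]
  have h2 : B d' z = 0 := by simp [hd', hz]
  refine ⟨d' - (B d' d' / 2) • γ, hB, hγ, ?_, by simp [h1, hγ], hzγ, ?_, hz⟩
  · have h22 := two_ne hB
    simp only [map_sub, map_smul, LinearMap.sub_apply, LinearMap.smul_apply, smul_eq_mul, hγ, h1, sym hB γ d']
    field_simp
    ring
  · rw [map_sub, map_smul, sym hB z d', h2, sym hB z γ, sym hB γ z, hzγ, smul_zero, sub_zero]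

theorem exists_hyp_at {γ : Fin 3 → F} (hγ0 : γ ≠ 0) (hγ : B γ γ = 0) : ∃ z δ, Hyp B γ z δ := by
  obtain ⟨d, hd, hdγ⟩ := hB.exists_partner hγ0 hγ
  obtain ⟨z, hzγ, -, hz⟩ := hB.exists_nonsingular_pair (two_ne hB) rfl hγ hd hdγ le_rfl
  exact ⟨z, exists_hyp_of hB hγ0 hγ hzγ hz⟩

variable [Fintype F]

theorem exists_hyp : ∃ γ z δ, Hyp B γ z δ := by
  obtain ⟨γ, -, hγ0, hγ⟩ := hB.exists_iso ⊤ (by rw [finrank_top, Module.finrank_fin_fun])
  exact ⟨γ, exists_hyp_at hB hγ0 hγ⟩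

theorem exists_hyp_pairing {e : Fin 3 → F} (he : e ≠ 0) : ∃ γ z δ, Hyp B γ z δ ∧ B e γ ≠ 0 := by
  obtain ⟨γ, z, δ, H⟩ := exists_hyp hB
  by_cases h1 : B e γ ≠ 0
  · exact ⟨γ, z, δ, H, h1⟩
  push Not at h1
  by_cases h2 : B e δ ≠ 0
  · obtain ⟨z', δ', H'⟩ := exists_hyp_at hB (γ := δ) (fun h => by simpa [h] using H.dg) H.dd
    exact ⟨δ, z', δ', H', h2⟩
  push Not at h2
  have h3 : B e z ≠ 0 := fun h3 => he (H.eq_zero h1 h3 h2)
  set γ' := γ + z + (-B z z / 2) • δ with hγ'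
  have hiso : B γ' γ' = 0 := by
    have := H.two
    simp only [hγ', map_add, map_smul, LinearMap.add_apply, LinearMap.smul_apply, smul_eq_mul, H.gg, H.dd, H.gd,
      H.dg, H.gz, H.zg, H.zd, H.dz]
    field_simp
    ring
  have hp : B e γ' ≠ 0 := by simp [hγ', h1, h2, h3]
  obtain ⟨z', δ', H'⟩ := exists_hyp_at hB (γ := γ') (fun h => hp (by rw [h, map_zero])) hiso
  exact ⟨γ', z', δ', H', hp⟩

/-- A frame whose middle vector is orthogonal to a non-singular `k`. -/
theorem exists_hyp_perp {k : Fin 3 → F} (hk : B k k ≠ 0) : ∃ γ z δ, Hyp B γ z δ ∧ B k γ ≠ 0 ∧ B k z = 0 := by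
  obtain ⟨γ, z₀, δ₀, H, hkγ⟩ := exists_hyp_pairing hB (fun h : k = 0 => hk (by simp [h]))
  set z := z₀ - (B k z₀ / B k γ) • γ with hz
  have h1 : B z γ = 0 := by simp [hz, H.zg, H.gg]
  have h2 : B z z ≠ 0 := by simpa [hz, H.zg, H.gg, H.gz] using H.zz
  obtain ⟨δ, H'⟩ := exists_hyp_of hB H.gamma_ne H.gg h1 h2
  exact ⟨γ, z, δ, H', hkγ, by simp [hz, hkγ]⟩

end CfsgLib.OrthNineTensor
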