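import Cfsg.Agent.OrthNineTensor.Frame
import Cfsg.Agent.Forms.OrthDet

/-!
# A tensor square of a three-dimensional space: the stabiliser and its involutions in `Ω`
-/

set_option autoImplicit false
set_option linter.unusedSectionVars false

namespace CfsgLib.OrthNineTensor

open Matrix Module CfsgLib.Spinor CfsgLib.OrthMax CfsgLib.TensorOrth CfsgLib.TensorSlice
open CfsgLib.TensorMax (Idx ten krG kron_mulVec_ten krG_val ten_smul_left ten_smul_right ten_inj_left ten_inj_right)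
open CfsgLib.TensorUnitary (ten_induction mat_ext_ten)
open scoped Kronecker

variable {F : Type*} [Field F] {Q : QuadraticForm F (Idx 3 3 → F)}
  {B : LinearMap.BilinForm F (Fin 3 → F)} {c : F}

/-- The setting: the polar form is the tensor square of `B`, scaled. -/
structure Sq (Q : QuadraticForm F (Idx 3 3 → F)) (B : LinearMap.BilinForm F (Fin 3 → F)) (c : F) : Prop where
  aset : ASet Q (c • B) B
  c_ne : c ≠ 0

/-- The exchange of the two factors, as a matrix. -/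
def swMat (F : Type*) [Field F] : Matrix (Idx 3 3) (Idx 3 3) F :=
  LinearMap.toMatrix' (LinearMap.funLeft F F (Prod.swap : Idx 3 3 → Idx 3 3))

theorem swMat_mulVec (v : Idx 3 3 → F) : swMat F *ᵥ v = v ∘ Prod.swap := LinearMap.toMatrix'_mulVec _ _

theorem swMat_ten (x y : Fin 3 → F) : swMat F *ᵥ ten x y = ten y x := by
  rw [swMat_mulVec]
  funext ⟨i, j⟩
  exact mul_comm _ _

theorem swMat_sq : swMat F * swMat F = 1 :=
  mat_ext_ten fun x y => by rw [← mulVec_mulVec, swMat_ten, swMat_ten, one_mulVec]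

namespace Sq

variable (h : Sq Q B c)
include h

theorem fac : Fac B 1 := h.aset.tset.f₂

theorem two : (2 : F) ≠ 0 := h.aset.two

theorem polar (x x' y y' : Fin 3 → F) :
    QuadraticMap.polar (⇑Q) (ten x y) (ten x' y') = c * B x x' * B y y' := by
  rw [h.aset.tset.polar, LinearMap.smul_apply, LinearMap.smul_apply, smul_eq_mul]

theorem iso_left (S : isoG B) : S.1 ∈ isoG (c • B) := fun x y => by
  simp only [LinearMap.smul_apply, S.2 x y]

/-- The element `S ⊗ T`. -/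
noncomputable def kk : ↥(isoG B) × ↥(isoG B) →* Isom Q where
  toFun p := h.aset.tset.krIso p.1.1 p.2.1 fun x x' y y' => by rw [h.iso_left p.1, p.2.2]
  map_one' := Subtype.ext (by
    show krG ((1 : GL (Fin 3) F), (1 : GL (Fin 3) F)) = 1
    rw [Prod.mk_one_one, map_one])
  map_mul' p p' := Subtype.ext (by
    show krG (p.1.1 * p'.1.1, p.2.1 * p'.2.1) = krG (p.1.1, p.2.1) * krG (p'.1.1, p'.2.1)
    rw [← map_mul, Prod.mk_mul_mk])

theorem kk_mat (S T : isoG B) : mat Q (h.kk (S, T)) = mt S ⊗ₖ mt T := rfl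

theorem kk_ten (S T : isoG B) (x y : Fin 3 → F) :
    mat Q (h.kk (S, T)) *ᵥ ten x y = ten (mt S *ᵥ x) (mt T *ᵥ y) := by
  rw [h.kk_mat, kron_mulVec_ten]

theorem kk_mem (S T : isoG B) : h.kk (S, T) ∈ Kr Q := ⟨S.1, T.1, rfl⟩

theorem kk_mul (S T S' T' : isoG B) : h.kk (S, T) * h.kk (S', T') = h.kk (S * S', T * T') := by
  rw [← map_mul, Prod.mk_mul_mk]

theorem exists_kk {g : Isom Q} (hg : g ∈ Kr Q) : ∃ S T : isoG B, g = h.kk (S, T) := by
  obtain ⟨S, hS, T, hST⟩ := h.aset.kr_cases ⟨1, rfl⟩ hg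
  refine ⟨⟨S, fun x y => ?_⟩, T, h.aset.ext_ten fun x y => by rw [hST, h.kk_ten]⟩
  have := hS x y
  simpa [h.c_ne] using this

theorem det_kk (S T : isoG B) : (mat Q (h.kk (S, T))).det = (mt S).det ^ 3 * (mt T).det ^ 3 := by
  rw [h.kk_mat, det_kronecker, Fintype.card_fin]

theorem trace_kk (S T : isoG B) : (mat Q (h.kk (S, T))).trace = (mt S).trace * (mt T).trace := by
  rw [h.kk_mat, trace_kronecker]

theorem det_iso (S : isoG B) : (mt S).det * (mt S).det = 1 := by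
  have hcomp : B.comp (Matrix.toLin' (mt S)) (Matrix.toLin' (mt S)) = B :=
    LinearMap.ext₂ fun x y => by simpa [Matrix.toLin'_apply] using S.2 x y
  have hdet := congrArg (fun C => (LinearMap.BilinForm.toMatrix' C).det) hcomp
  simp only [LinearMap.BilinForm.toMatrix'_comp, LinearMap.toMatrix'_toLin', det_mul, det_transpose] at hdet
  exact mul_right_cancel₀ (disc_ne_zero h.fac) (by linear_combination hdet)

theorem det_negOne : (mt (negOne B)).det = -1 := by
  have h' : mt (negOne B) = -1 := Matrix.ext_iff_mulVec.2 fun x => by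
    rw [negOne_mulVec, neg_mulVec, one_mulVec]
  rw [h', det_neg, det_one, Fintype.card_fin]
  ring

theorem kk_negOne : h.kk (negOne B, negOne B) = 1 := h.aset.ext_ten fun x y => by
  rw [h.kk_ten, negOne_mulVec, negOne_mulVec, mat_one, one_mulVec, TensorSlice.ten_neg_left,
    TensorSlice.ten_neg_right, neg_neg]

/-- An element of `Kr` of determinant one comes from `SO₃ × SO₃`. -/
theorem exists_kk_special {g : Isom Q} (hg : g ∈ Kr Q) (hd : (mat Q g).det = 1) :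
    ∃ S T : isoG B, (mt S).det = 1 ∧ (mt T).det = 1 ∧ g = h.kk (S, T) := by
  obtain ⟨S, T, rfl⟩ := h.exists_kk hg
  rw [h.det_kk] at hd
  rcases mul_self_eq_one_iff.1 (h.det_iso S) with hS | hS
  · refine ⟨S, T, hS, ?_, rfl⟩
    rw [hS, one_pow, one_mul, pow_succ, pow_two, h.det_iso, one_mul] at hd
    exact hd
  · refine ⟨negOne B * S, negOne B * T, ?_, ?_, ?_⟩
    · rw [mt_mul, det_mul, h.det_negOne, hS]; ring
    · rw [hS, pow_succ (mt T).det, pow_two, h.det_iso, one_mul] at hd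
      rw [mt_mul, det_mul, h.det_negOne]
      linear_combination hd
    · rw [← h.kk_mul, h.kk_negOne, one_mul]

theorem kk_scalar {S T : isoG B} (e : h.kk (S, T) = 1) :
    ∃ μ : F, μ * μ = 1 ∧ (∀ x, x = μ • mt S *ᵥ x) ∧ ∀ x, mt T *ᵥ x = μ • x := by
  obtain ⟨fr, hfr⟩ := exists_orth_basis h.fac h.two
  have hne : fr 0 ≠ 0 := fr.ne_zero 0
  have e' : ∀ x y, ten (mt S *ᵥ x) (mt T *ᵥ y) = ten x y := fun x y => by
    rw [← h.kk_ten, e, mat_one, one_mulVec]
  have hA : ∃ x, mt S *ᵥ x ≠ 0 := ⟨fr 0, fun h0 => hne (by rw [← mt_inv_mulVec S (fr 0), h0, mulVec_zero])⟩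
  obtain ⟨μ, hμ, hD⟩ := TensorOrth.split_ten (by norm_num) hA hne fun x => e' x (fr 0)
  have hv := value_mulVec h.fac S (fr 0) (fr 0)
  have h1 := congrArg (fun v => B v v) (hD (fr 0))
  simp only [map_smul, LinearMap.smul_apply, smul_eq_mul, hv] at h1
  have hμ2 : μ * μ = 1 := mul_right_cancel₀ (hfr.1 0) (by linear_combination -h1)
  refine ⟨μ, hμ2, hD, fun y => ?_⟩
  have h3 := e' (fr 0) y
  rw [show mt S *ᵥ fr 0 = μ • fr 0 by conv_rhs => rw [hD (fr 0), smul_smul, hμ2, one_smul],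
    ten_smul_left, ← ten_smul_right] at h3
  have h4 := ten_inj_right hne h3
  calc mt T *ᵥ y = (μ * μ) • (mt T *ᵥ y) := by rw [hμ2, one_smul]
    _ = μ • y := by rw [mul_smul, h4]

theorem kk_eq_one {S T : isoG B} (hS : (mt S).det = 1) (e : h.kk (S, T) = 1) : S = 1 ∧ T = 1 := by
  obtain ⟨μ, hμ, hS', hT'⟩ := h.kk_scalar e
  have hm : μ • mt S = 1 := Matrix.ext_iff_mulVec.2 fun x => by rw [smul_mulVec, one_mulVec, ← hS']
  have h3 := congrArg Matrix.det hm
  rw [det_smul, det_one, hS, Fintype.card_fin, mul_one, pow_succ, pow_two, hμ, one_mul] at h3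
  subst h3
  exact ⟨mt_injective (by rw [one_smul] at hm; rw [hm, mt_one]),
    isoG_ext' fun x => by rw [hT', one_smul, mt_one, one_mulVec]⟩

theorem kk_inj {S T S' T' : isoG B} (hS : (mt S).det = 1) (hS' : (mt S').det = 1)
    (e : h.kk (S, T) = h.kk (S', T')) : S = S' ∧ T = T' := by
  have e' : h.kk (S'⁻¹ * S, T'⁻¹ * T) = 1 := by
    rw [← Prod.mk_mul_mk, ← Prod.inv_mk, map_mul, map_inv, e, inv_mul_cancel]
  have hd : (mt (S'⁻¹ * S)).det = 1 := by
    have h1 : (mt S'⁻¹).det * (mt S').det = 1 := by rw [← det_mul, ← mt_mul, inv_mul_cancel, mt_one, det_one]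
    rw [hS', mul_one] at h1
    rw [mt_mul, det_mul, h1, hS, one_mul]
  obtain ⟨h1, h2⟩ := h.kk_eq_one hd e'
  exact ⟨(inv_mul_eq_one.1 h1).symm, (inv_mul_eq_one.1 h2).symm⟩

theorem sw_quad (v : Idx 3 3 → F) : Q (swMat F *ᵥ v) = Q v := by
  have hp : ∀ u w, QuadraticMap.polar (⇑Q) (swMat F *ᵥ u) (swMat F *ᵥ w) = QuadraticMap.polar (⇑Q) u w :=
    h.aset.tset.polar_eq_of_ten fun x y x' y' => by
      rw [swMat_ten, swMat_ten, h.polar, ← h.aset.tset.polar, h.polar]; ring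
  refine mul_left_cancel₀ h.two ?_
  rw [← polar_self', ← polar_self', hp]

/-- The exchange of the two factors. -/
noncomputable def sw : Isom Q :=
  ⟨⟨swMat F, swMat F, swMat_sq, swMat_sq⟩, fun x _ => h.sw_quad x⟩

theorem sw_mat : mat Q h.sw = swMat F := rfl

theorem sw_sq : h.sw * h.sw = 1 := mat_ext Q swMat_sq

theorem sw_inv : h.sw⁻¹ = h.sw := inv_eq_of_mul_eq_one_right h.sw_sq

theorem sw_kk (S T : isoG B) : h.sw * h.kk (S, T) = h.kk (T, S) * h.sw := h.aset.ext_ten fun x y => by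
  rw [mat_mul, mat_mul, ← mulVec_mulVec, ← mulVec_mulVec, h.sw_mat, h.kk_ten, swMat_ten, swMat_ten, h.kk_ten]

theorem sw_conj (S T : isoG B) : h.sw * h.kk (S, T) * h.sw = h.kk (T, S) := by
  rw [h.sw_kk, mul_assoc, h.sw_sq, mul_one]

theorem kk_sw_trace (S T : isoG B) : (mat Q (h.kk (S, T) * h.sw)).trace = (mt (S * T)).trace := by
  have hP : ∀ i : Idx 3 3, swMat F *ᵥ Pi.single i 1 = Pi.single i.swap 1 := fun i => by
    rw [swMat_mulVec]
    funext j
    simp only [Function.comp_apply, Pi.single_apply, Prod.swap_eq_iff_eq_swap]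
  have hE : ∀ i : Idx 3 3, mat Q (h.kk (S, T) * h.sw) i i = mt S i.1 i.2 * mt T i.2 i.1 := fun i => by
    have e := congrFun (congrArg (mat Q (h.kk (S, T)) *ᵥ ·) (hP i)) i
    simp only [mulVec_mulVec, mulVec_single_one] at e
    rw [mat_mul, h.sw_mat, show (mat Q (h.kk (S, T)) * swMat F) i i = mat Q (h.kk (S, T)) i i.swap from e]
    rfl
  rw [mt_mul]
  simp only [Matrix.trace, Matrix.diag, hE, Fintype.sum_prod_type, Matrix.mul_apply]

/-- The stabiliser of the unordered decomposition. -/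
def wr : Subgroup (Isom Q) where
  carrier := {g | g ∈ Kr Q ∨ g * h.sw ∈ Kr Q}
  one_mem' := Or.inl (one_mem _)
  mul_mem' {x y} hx hy := by
    have hconj : ∀ z ∈ Kr Q, h.sw * z * h.sw ∈ Kr Q := fun z hz => by
      obtain ⟨S, T, rfl⟩ := h.exists_kk hz
      rw [h.sw_conj]; exact h.kk_mem _ _
    rcases hx with hx | hx <;> rcases hy with hy | hy
    · exact Or.inl (mul_mem hx hy)
    · exact Or.inr (by rw [mul_assoc]; exact mul_mem hx hy)
    · refine Or.inr ?_
      have e : x * y * h.sw = x * h.sw * (h.sw * y * h.sw) := by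
        simp only [mul_assoc]; rw [← mul_assoc h.sw h.sw, h.sw_sq, one_mul]
      rw [e]; exact mul_mem hx (hconj _ hy)
    · refine Or.inl ?_
      have e : x * y = x * h.sw * (h.sw * (y * h.sw) * h.sw) := by
        simp only [mul_assoc]; rw [h.sw_sq, mul_one, ← mul_assoc h.sw h.sw, h.sw_sq, one_mul]
      rw [e]; exact mul_mem hx (hconj _ hy)
  inv_mem' {x} hx := by
    have hconj : ∀ z ∈ Kr Q, h.sw * z * h.sw ∈ Kr Q := fun z hz => by
      obtain ⟨S, T, rfl⟩ := h.exists_kk hz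
      rw [h.sw_conj]; exact h.kk_mem _ _
    rcases hx with hx | hx
    · exact Or.inl (inv_mem hx)
    · refine Or.inr ?_
      have := hconj _ (inv_mem hx)
      rwa [_root_.mul_inv_rev, h.sw_inv, ← mul_assoc, h.sw_sq, one_mul] at this

theorem mem_wr {g : Isom Q} : g ∈ h.wr ↔ g ∈ Kr Q ∨ g * h.sw ∈ Kr Q := Iff.rfl

theorem kk_mem_wr (S T : isoG B) : h.kk (S, T) ∈ h.wr := Or.inl (h.kk_mem S T)

/-- Involutions exchanging the factors have trace `±3`. -/
theorem swap_trace {g : Isom Q} (hg : g * h.sw ∈ Kr Q) (h2 : g * g = 1) :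
    (mat Q g).trace = 3 ∨ (mat Q g).trace = -3 := by
  obtain ⟨S, T, e⟩ := h.exists_kk hg
  have e' : g = h.kk (S, T) * h.sw := by rw [← e, mul_assoc, h.sw_sq, mul_one]
  have h3 : h.kk (S * T, T * S) = 1 := by
    rw [← h.kk_mul, ← h2, e', mul_assoc (h.kk (S, T)) h.sw, ← mul_assoc h.sw, h.sw_conj]
  obtain ⟨μ, hμ, hS, -⟩ := h.kk_scalar h3
  have hm : mt (S * T) = μ • (1 : Matrix (Fin 3) (Fin 3) F) := Matrix.ext_iff_mulVec.2 fun x => by
    rw [smul_mulVec, one_mulVec]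
    conv_rhs => rw [hS x, smul_smul, hμ, one_smul]
  rw [e', h.kk_sw_trace, hm, trace_smul, trace_one, Fintype.card_fin, smul_eq_mul]
  rcases mul_self_eq_one_iff.1 hμ with h4 | h4 <;> rw [h4] <;> norm_num

/-- An involution of the stabiliser of trace one preserves both factors. -/
theorem mem_Kr_of_trace_one {g : Isom Q} (hg : g ∈ h.wr) (h2 : g * g = 1) (ht : (mat Q g).trace = 1) :
    g ∈ Kr Q := by
  refine hg.resolve_right fun h' => ?_
  rcases h.swap_trace h' h2 with e | e <;> rw [ht] at e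
  · exact h.two (by linear_combination -e)
  · exact mul_ne_zero h.two h.two (by linear_combination e)

theorem involution_cases {g : Isom Q} (hg : g ∈ Kr Q) (hd : (mat Q g).det = 1) (h2 : g * g = 1) (h1 : g ≠ 1) :
    (∃ k, B k k ≠ 0 ∧ g = h.kk (ht h.fac k, 1)) ∨ (∃ k, B k k ≠ 0 ∧ g = h.kk (1, ht h.fac k)) ∨
      ∃ k l, B k k ≠ 0 ∧ B l l ≠ 0 ∧ g = h.kk (ht h.fac k, ht h.fac l) := by
  obtain ⟨S, T, hS, hT, rfl⟩ := h.exists_kk_special hg hd
  rw [h.kk_mul] at h2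
  obtain ⟨hS2, hT2⟩ := h.kk_eq_one (by rw [mt_mul, det_mul, hS, one_mul]) h2
  by_cases hS1 : S = 1
  · subst hS1
    have hT1 : T ≠ 1 := fun e => h1 (by rw [e, Prod.mk_one_one, map_one])
    obtain ⟨k, hk, rfl⟩ := exists_ht_of_involution h.fac hT2 hT hT1
    exact Or.inr (Or.inl ⟨k, hk, rfl⟩)
  obtain ⟨k, hk, rfl⟩ := exists_ht_of_involution h.fac hS2 hS hS1
  by_cases hT1 : T = 1
  · exact Or.inl ⟨k, hk, by rw [hT1]⟩
  obtain ⟨l, hl, rfl⟩ := exists_ht_of_involution h.fac hT2 hT hT1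
  exact Or.inr (Or.inr ⟨k, l, hk, hl, rfl⟩)

/-! ### Membership in `Ω` -/

theorem det_omega {g : Isom Q} (hg : g ∈ Cfsg.Omega F ⇑Q) : (mat Q g).det = 1 :=
  (Forms.mem_special_iff g).1 (Forms.omega_le_special hg)

theorem det_mul' (g g' : Isom Q) : (mat Q (g * g')).det = (mat Q g).det * (mat Q g').det := by
  rw [mat_mul, det_mul]

theorem trace_conj (g x : Isom Q) : (mat Q (x * g * x⁻¹)).trace = (mat Q g).trace := by
  rw [mat_mul, mat_mul, trace_mul_cycle, ← mat_mul, inv_mul_cancel, mat_one, one_mul]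

theorem omega_normal (x : Isom Q) {g : Isom Q} (hg : g ∈ Cfsg.Omega F ⇑Q) : x * g * x⁻¹ ∈ Cfsg.Omega F ⇑Q := by
  have hn : (Cfsg.Omega F ⇑Q).Normal := by unfold Cfsg.Omega; infer_instance
  exact hn.conj_mem g hg x

theorem sw_mem_omega_iff (S T : isoG B) :
    h.kk (T, S) ∈ Cfsg.Omega F ⇑Q ↔ h.kk (S, T) ∈ Cfsg.Omega F ⇑Q := by
  constructor <;> intro hm
  · have := h.omega_normal h.sw hm
    rwa [h.sw_inv, h.sw_conj] at this
  · have := h.omega_normal h.sw hm
    rwa [h.sw_inv, h.sw_conj] at this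

/-- The reflection in the second factor. -/
noncomputable def rf (a : Fin 3 → F) : Isom Q := h.aset.R a

theorem rf_eq (a : Fin 3 → F) : h.rf a = h.kk (1, h.aset.rR a) := h.aset.ext_ten fun x y => by
  rw [h.kk_ten, mt_one, one_mulVec, rf, ASet.R, h.aset.kR_ten]

theorem rR_frame {e : Fin 3 → Fin 3 → F} (he : IsOrth B e) :
    h.aset.rR (e 1) * h.aset.rR (e 2) = ht h.fac (e 0) := by
  refine isoG_ext_indep (orth_indep he) fun i => ?_
  rw [mt_mul_mulVec, ht_frame h.fac he]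
  obtain rfl | rfl | rfl : i = 0 ∨ i = 1 ∨ i = 2 := by omega
  · rw [h.aset.rR_fix (he.1 2) (he.2 0 2 (by decide)), h.aset.rR_fix (he.1 1) (he.2 0 1 (by decide)), if_pos rfl,
      one_smul]
  · rw [h.aset.rR_fix (he.1 2) (he.2 1 2 (by decide)), h.aset.rR_self (he.1 1), if_neg (by decide), neg_one_smul]
  · rw [h.aset.rR_self (he.1 2), mulVec_neg, h.aset.rR_fix (he.1 1) (he.2 2 1 (by decide)), if_neg (by decide),
      neg_one_smul]

variable [Fintype F]

/-- Determinant-one isometries outside `Ω` multiply into `Ω`. -/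
theorem mul_mem_omega {g g' : Isom Q} (hg : (mat Q g).det = 1) (hg' : (mat Q g').det = 1)
    (hn : g ∉ Cfsg.Omega F ⇑Q) (hn' : g' ∉ Cfsg.Omega F ⇑Q) : g * g' ∈ Cfsg.Omega F ⇑Q := by
  have hQ := h.aset.tset.nondeg
  obtain ⟨vs, hvs⟩ := exists_isReflProd h.two hQ g
  obtain ⟨ws, hws⟩ := exists_isReflProd h.two hQ g'
  have heven : ∀ {k : Isom Q} {us : List (Idx 3 3 → F)}, IsReflProd Q k us → (mat Q k).det = 1 → Even us.length :=
    fun hk hd => (neg_one_pow_eq_one_iff_even (fun e => h.two (by linear_combination -e))).1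
      ((Forms.det_isReflProd hk).symm.trans hd)
  have ev := heven hvs hg
  have ew := heven hws hg'
  rw [mem_omega_iff h.two hQ hvs, not_and] at hn
  rw [mem_omega_iff h.two hQ hws, not_and] at hn'
  rw [mem_omega_iff h.two hQ (hvs.mul hws), List.length_append, List.map_append, List.prod_append]
  refine ⟨ev.add ew, ?_⟩
  have hne : ∀ {us : List (Idx 3 3 → F)}, (∀ v ∈ us, Q v ≠ 0) → (us.map fun v => Q v).prod ≠ 0 := fun hu => by
    refine List.prod_ne_zero fun h0 => ?_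
    obtain ⟨v, hv, hv0⟩ := List.mem_map.1 h0
    exact hu v hv hv0
  exact (OrthSquareScalar.isSquare_mul_iff (hne hvs.1) (hne hws.1)).2 (iff_of_false (hn ev) (hn' ew))

theorem mul_mem_omega_iff {g g' : Isom Q} (hg : (mat Q g).det = 1) (hg' : (mat Q g').det = 1) :
    g * g' ∈ Cfsg.Omega F ⇑Q ↔ (g ∈ Cfsg.Omega F ⇑Q ↔ g' ∈ Cfsg.Omega F ⇑Q) := by
  by_cases h1 : g ∈ Cfsg.Omega F ⇑Q
  · rw [Subgroup.mul_mem_cancel_left _ h1, iff_true_left h1]
  by_cases h1' : g' ∈ Cfsg.Omega F ⇑Q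
  · rw [Subgroup.mul_mem_cancel_right _ h1', iff_true_right h1']
  exact iff_of_true (h.mul_mem_omega hg hg' h1 h1') (iff_of_false h1 h1')

/-- Two slice reflections: the spinor norm. -/
theorem rf_mul_mem_iff {a b : Fin 3 → F} (ha : B a a ≠ 0) (hb : B b b ≠ 0) :
    (mat Q (h.rf a * h.rf b)).det = 1 ∧
      (h.rf a * h.rf b ∈ Cfsg.Omega F ⇑Q ↔ IsSquare (B a a * B b b)) := by
  obtain ⟨v, hv⟩ := exists_orth_basis h.aset.tset.f₁ h.two
  have hp := (h.aset.R_isReflProd hv ha).mul (h.aset.R_isReflProd hv hb)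
  constructor
  · rw [rf, rf, Forms.det_isReflProd hp, List.length_append, List.length_ofFn, List.length_ofFn]
    norm_num
  rw [rf, rf, mem_omega_iff h.two h.aset.tset.nondeg hp, List.length_append, List.length_ofFn, List.length_ofFn,
    List.map_append, List.prod_append, List.map_ofFn, List.map_ofFn, List.prod_ofFn, List.prod_ofFn]
  simp only [Function.comp_apply, h.aset.quad_ten, Fin.prod_univ_three]
  set r := (c • B) (v 0) (v 0) * (c • B) (v 1) (v 1) * (c • B) (v 2) (v 2) * (B a a * B b b) / (2 * 2 * 2) with hr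
  have hr0 : r ≠ 0 := div_ne_zero (mul_ne_zero (mul_ne_zero (mul_ne_zero (hv.1 0) (hv.1 1)) (hv.1 2))
    (mul_ne_zero ha hb)) (mul_ne_zero (mul_ne_zero h.two h.two) h.two)
  have e : (c • B) (v 0) (v 0) * B a a / 2 * ((c • B) (v 1) (v 1) * B a a / 2) * ((c • B) (v 2) (v 2) * B a a / 2)
      * ((c • B) (v 0) (v 0) * B b b / 2 * ((c • B) (v 1) (v 1) * B b b / 2) * ((c • B) (v 2) (v 2) * B b b / 2))
      = r * r * (B a a * B b b) := by
    rw [hr]; field_simp
  rw [e, OrthSquareScalar.isSquare_mul_iff (mul_ne_zero hr0 hr0) (mul_ne_zero ha hb)]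
  simp [show Even (3 + 3) from ⟨3, rfl⟩]

theorem rot_right {k : Fin 3 → F} (hk : B k k ≠ 0) :
    (mat Q (h.kk (1, ht h.fac k))).det = 1 ∧ (h.kk (1, ht h.fac k) ∈ Cfsg.Omega F ⇑Q ↔ Good B k) := by
  obtain ⟨e, he, rfl⟩ := exists_frame_of h.fac k hk
  have e1 : h.kk (1, ht h.fac (e 0)) = h.rf (e 1) * h.rf (e 2) := by
    rw [h.rf_eq, h.rf_eq, h.kk_mul, one_mul, h.rR_frame he]
  obtain ⟨h1, h2⟩ := h.rf_mul_mem_iff (he.1 1) (he.1 2)
  rw [e1]
  exact ⟨h1, h2.trans (good_iff_mul h.fac he).symm⟩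

theorem rot_left {k : Fin 3 → F} (hk : B k k ≠ 0) :
    (mat Q (h.kk (ht h.fac k, 1))).det = 1 ∧ (h.kk (ht h.fac k, 1) ∈ Cfsg.Omega F ⇑Q ↔ Good B k) := by
  refine ⟨by rw [h.det_kk, (ht_det_trace h.fac hk).1, mt_one, det_one]; ring, ?_⟩
  rw [← h.sw_mem_omega_iff]
  exact (h.rot_right hk).2

theorem rot_both {k l : Fin 3 → F} (hk : B k k ≠ 0) (hl : B l l ≠ 0) :
    h.kk (ht h.fac k, ht h.fac l) ∈ Cfsg.Omega F ⇑Q ↔ (Good B k ↔ Good B l) := by
  rw [← mul_one (ht h.fac k), ← one_mul (ht h.fac l), ← h.kk_mul,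
    h.mul_mem_omega_iff (h.rot_left hk).1 (h.rot_right hl).1, (h.rot_left hk).2, (h.rot_right hl).2]

/-- A rotation fixing `k` of non-square spinor norm. -/
theorem exists_adjust {k : Fin 3 → F} (hk : B k k ≠ 0) :
    ∃ A : isoG B, mt A *ᵥ k = k ∧ (mat Q (h.kk (1, A))).det = 1 ∧ h.kk (1, A) ∉ Cfsg.Omega F ⇑Q := by
  obtain ⟨ν, hν⟩ := FiniteField.exists_nonsquare (F := F) fun hc => h.two (by
    have := ringChar.Nat.cast_ringChar (R := F)
    rw [hc] at this
    exact_mod_cast this)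
  obtain ⟨a, hak, haa⟩ := exists_perp_value h.fac hk 1
  obtain ⟨b, hbk, hbb⟩ := exists_perp_value h.fac hk ν
  have ha : B a a ≠ 0 := by rw [haa]; exact one_ne_zero
  have hb : B b b ≠ 0 := by rw [hbb]; exact fun h0 => hν (h0 ▸ ⟨0, by rw [mul_zero]⟩)
  refine ⟨h.aset.rR a * h.aset.rR b, ?_, ?_⟩
  · rw [mt_mul_mulVec, h.aset.rR_fix hb (by rw [sym h.fac]; exact hbk),
      h.aset.rR_fix ha (by rw [sym h.fac]; exact hak)]
  have e : h.kk (1, h.aset.rR a * h.aset.rR b) = h.rf a * h.rf b := by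
    rw [h.rf_eq, h.rf_eq, h.kk_mul, one_mul]
  obtain ⟨h1, h2⟩ := h.rf_mul_mem_iff ha hb
  rw [e]
  refine ⟨h1, fun hm => hν ?_⟩
  rw [← one_mul ν, ← haa, ← hbb]
  exact h2.1 hm

/-- An element of `Ω` exchanging the factors. -/
theorem exists_swap : ∃ S T : isoG B, h.sw * h.kk (S, T) ∈ Cfsg.Omega F ⇑Q := by
  obtain ⟨S, hS⟩ : ∃ S : isoG B, (mat Q (h.sw * h.kk (S, 1))).det = 1 := by
    rcases Forms.det_mat_eq h.aset.tset.nondeg h.sw with hd | hd
    · exact ⟨1, by rw [h.det_mul', hd, Prod.mk_one_one, map_one, mat_one, det_one, one_mul]⟩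
    · exact ⟨negOne B, by rw [h.det_mul', hd, h.det_kk, h.det_negOne, mt_one, det_one]; ring⟩
  by_cases hm : h.sw * h.kk (S, 1) ∈ Cfsg.Omega F ⇑Q
  · exact ⟨S, 1, hm⟩
  obtain ⟨fr, hfr⟩ := exists_orth_basis h.fac h.two
  obtain ⟨A, -, hA1, hA2⟩ := h.exists_adjust (hfr.1 0)
  refine ⟨S * 1, 1 * A, ?_⟩
  rw [← h.kk_mul, ← mul_assoc]
  exact h.mul_mem_omega hS hA1 hm hA2

end Sq

end CfsgLib.OrthNineTensor
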