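import Cfsg.Agent.OrthNineTensor.Setup
import Cfsg.Agent.OrthNineTensor.Hyperbolic
import Cfsg.Agent.OrthTwelveTensor.Generation

/-!
# Elements `1 + N ⊗ A + N² ⊗ C` of a proper overgroup

`N` is the generator of a root group of the first factor. Such an element of a proper overgroup, with `A` and `C`
killing a non-singular vector, is trivial.
-/

set_option autoImplicit false
set_option linter.unusedSectionVars false

namespace CfsgLib.OrthNineTensor

open Matrix Module CfsgLib.Spinor CfsgLib.OrthMax CfsgLib.TensorOrth CfsgLib.TensorSlice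
open CfsgLib.TensorMax (Idx ten krG kron_mulVec_ten ten_smul_left ten_smul_right)
open CfsgLib.TensorUnitary (mat_ext_ten)
open CfsgLib.Forms (eich eich_mulVec)
open scoped Kronecker

variable {F : Type*} [Field F] [Fintype F] {Q : QuadraticForm F (Idx 3 3 → F)}
  {B : LinearMap.BilinForm F (Fin 3 → F)} {c : F}

/-- A proper subgroup of `Ω` containing the stabiliser. -/
structure Ovg (h : Sq Q B c) (M : Subgroup (Isom Q)) : Prop where
  le : M ≤ Cfsg.Omega F ⇑Q
  mem : ∀ g ∈ Cfsg.Omega F ⇑Q, g ∈ h.wr → g ∈ M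
  not_le : ¬ Cfsg.Omega F ⇑Q ≤ M
  card : 5 ≤ Fintype.card F

/-- The matrix `1 + N ⊗ A + N² ⊗ C`. -/
noncomputable def sh (B : LinearMap.BilinForm F (Fin 3 → F)) (γ z : Fin 3 → F)
    (A C : Matrix (Fin 3) (Fin 3) F) : Matrix (Idx 3 3) (Idx 3 3) F :=
  1 + nM B γ z ⊗ₖ A + (nM B γ z * nM B γ z) ⊗ₖ C

namespace Hyp

variable {γ z δ : Fin 3 → F} (H : Hyp B γ z δ)
include H

theorem sh_mul (A C A' C' : Matrix (Fin 3) (Fin 3) F) :
    sh B γ z A C * sh B γ z A' C' = sh B γ z (A + A') (C + C' + A * A') := by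
  simp only [sh, add_mul, mul_add, one_mul, mul_one, ← mul_kronecker_mul, ← mul_assoc, H.n_cube, zero_mul,
    zero_kronecker, add_zero, kronecker_add]
  abel

theorem sh_zero : sh B γ z (0 : Matrix (Fin 3) (Fin 3) F) 0 = 1 := by simp [sh]

end Hyp

namespace Sq

variable (h : Sq Q B c)
include h

/-- The relations forced by being an isometry. -/
theorem sh_rels {γ z δ : Fin 3 → F} (H : Hyp B γ z δ) {g : Isom Q} {A C : Matrix (Fin 3) (Fin 3) F} (hg : mat Q g = sh B γ z A C) :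
    (∀ y y', B (A *ᵥ y) y' = B y (A *ᵥ y')) ∧
      ∀ y y', B (C *ᵥ y) y' + B y (C *ᵥ y') = B (A *ᵥ y) (A *ᵥ y') := by
  have hd : ∀ y, mat Q g *ᵥ ten δ y = ten δ y + ten z (A *ᵥ y) + ten ((-B z z) • γ) (C *ᵥ y) := fun y => by
    rw [hg, sh, add_mulVec, add_mulVec, one_mulVec, kron_mulVec_ten, kron_mulVec_ten, H.n_delta, H.n2_apply, H.dg,
      mul_one]
  have hz : ∀ y, mat Q g *ᵥ ten z y = ten z y + ten ((-B z z) • γ) (A *ᵥ y) := fun y => by
    rw [hg, sh, add_mulVec, add_mulVec, one_mulVec, kron_mulVec_ten, kron_mulVec_ten, H.n_z, H.n2_apply, H.zg,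
      mul_zero, neg_zero, zero_smul, CfsgLib.TensorOrth.ten_zero_left, add_zero]
  have hcz : c * B z z ≠ 0 := mul_ne_zero h.c_ne H.zz
  constructor <;> intro y y'
  · have e := polar_mulVec Q g (ten δ y) (ten z y')
    rw [hd, hz] at e
    simp only [QuadraticMap.polar_add_left, QuadraticMap.polar_add_right, h.polar, map_smul, LinearMap.smul_apply,
      smul_eq_mul, H.dz, H.dg, H.zg, H.gg, H.gz, mul_zero, zero_mul, add_zero, zero_add, mul_one] at e
    refine mul_left_cancel₀ hcz ?_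
    linear_combination e
  · have e := polar_mulVec Q g (ten δ y) (ten δ y')
    rw [hd, hd] at e
    simp only [QuadraticMap.polar_add_left, QuadraticMap.polar_add_right, h.polar, map_smul, LinearMap.smul_apply,
      smul_eq_mul, H.dd, H.dz, H.dg, H.zg, H.zd, H.gg, H.gz, H.gd, mul_zero, zero_mul, add_zero, zero_add,
      mul_one] at e
    refine mul_left_cancel₀ hcz ?_
    linear_combination -e

theorem sh_conj {γ z : Fin 3 → F} {g : Isom Q} {A C : Matrix (Fin 3) (Fin 3) F} (hg : mat Q g = sh B γ z A C) (T : isoG B) :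
    mat Q (h.kk (1, T) * g * (h.kk (1, T))⁻¹) = sh B γ z (mt T * A * mt T⁻¹) (mt T * C * mt T⁻¹) := by
  rw [← map_inv, mat_mul, mat_mul, hg, Prod.inv_mk, inv_one, h.kk_mat, h.kk_mat, mt_one, sh, sh]
  simp only [mul_add, add_mul, mul_one, one_mul, ← mul_kronecker_mul]
  rw [← mt_mul, mul_inv_cancel, mt_one, one_kronecker_one]

theorem sh_inv {γ z δ : Fin 3 → F} (H : Hyp B γ z δ) {g : Isom Q} {C : Matrix (Fin 3) (Fin 3) F} (hg : mat Q g = sh B γ z 0 C) :
    mat Q g⁻¹ = sh B γ z 0 (-C) :=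
  calc mat Q g⁻¹ = sh B γ z 0 (-C) * mat Q g * mat Q g⁻¹ := by
        rw [hg, H.sh_mul, add_zero, neg_add_cancel, zero_add, mul_zero, H.sh_zero, one_mul]
    _ = sh B γ z 0 (-C) := by rw [mul_assoc, ← mat_mul, mul_inv_cancel, mat_one, mul_one]

end Sq

namespace Ovg

variable {h : Sq Q B c} {M : Subgroup (Isom Q)} (ov : Ovg h M)
include ov

theorem right_mem {T : isoG B} (hT : T.1 ∈ fgrp B 1) : h.kk (1, T) ∈ M := by
  obtain ⟨g, hg, he⟩ := h.aset.tset.right_mem_omega (by norm_num) hT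
  have e : g = h.kk (1, T) := Subtype.ext he
  exact ov.mem _ (e ▸ hg) (h.kk_mem_wr _ _)

theorem left_mem {T : isoG B} (hT : T.1 ∈ fgrp B 1) : h.kk (T, 1) ∈ M :=
  ov.mem _ ((h.sw_mem_omega_iff 1 T).2 (ov.le (ov.right_mem hT))) (h.kk_mem_wr _ _)

theorem seed_false {γ : Fin 3 → F} {γ' v : Fin 3 → F} (hs : Seed M tenB (c • B) B γ γ' v) : False := by
  have hS := h.aset.tset
  exact ov.not_le (OrthTwelveTensor.omega_le_of_seed_wide hS.tens (hS.lifts (by norm_num)
    fun g hg hgK => ov.mem g hg (Or.inl hgK)) hS.f₁ hS.f₂ hS.nondeg (by simp) le_rfl le_rfl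
    (hS.f₁.noPlane_wide le_rfl) (hS.f₂.noPlane_wide le_rfl) hs)

variable {γ z δ : Fin 3 → F} (H : Hyp B γ z δ)
include H

/-- The case of a root element. -/
theorem seed_of_shape {g : Isom Q} (hgM : g ∈ M) {C : Matrix (Fin 3) (Fin 3) F}
    (hg : mat Q g = sh B γ z 0 C) {γ' z' δ' : Fin 3 → F} (H' : Hyp B γ' z' δ')
    (h1 : B (C *ᵥ γ') δ' = 0) (h2 : B (C *ᵥ γ') z' = 0) (h3 : B (C *ᵥ δ') z' ≠ 0) : False := by
  have hskew : ∀ y y', B (C *ᵥ y) y' = -B y (C *ᵥ y') := fun y y' => by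
    have e := (h.sh_rels H hg).2 y y'
    rw [zero_mulVec, zero_mulVec, map_zero] at e
    linear_combination e
  have hdiag : ∀ y, B (C *ᵥ y) y = 0 := fun y => by
    have e := hskew y y
    rw [sym H.fac y (C *ᵥ y)] at e
    exact (mul_eq_zero.1 (show (2 : F) * B (C *ᵥ y) y = 0 by linear_combination e)).resolve_left H.two
  have hsw : ∀ y y', B (C *ᵥ y') y = -B (C *ᵥ y) y' := fun y y' => by
    rw [hskew y' y, sym H.fac y' (C *ᵥ y)]
  set μ := B (C *ᵥ δ') z' / B z' z' with hμ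
  have hμ0 : μ ≠ 0 := div_ne_zero h3 H'.zz
  have hCγ : C *ᵥ γ' = 0 := H'.eq_zero (hdiag _) h2 h1
  have hCz : C *ᵥ z' = (-(μ * B z' z')) • γ' := by
    refine sub_eq_zero.1 (H'.eq_zero ?_ ?_ ?_)
    · simp [hsw γ' z', h2, H'.gg]
    · simp [hdiag, H'.gz]
    · simp [hsw δ' z', H'.gd, hμ, H'.zz]
  have hCd : C *ᵥ δ' = μ • z' := by
    refine sub_eq_zero.1 (H'.eq_zero ?_ ?_ ?_)
    · simp [hsw γ' δ', h1, H'.zg]
    · simp [hμ, H'.zz]
    · simp [hdiag, H'.zd]
  have hC : ∀ y, C *ᵥ y = μ • (B y γ' • z' - B y z' • γ') := fun y => by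
    conv_lhs => rw [H'.expand y]
    rw [mulVec_add, mulVec_add, mulVec_smul, mulVec_smul, mulVec_smul, hCγ, hCz, hCd]
    have := H'.zz
    match_scalars <;> field_simp
  set κ := -(B z z * μ) / c with hκ
  have hκ0 : κ ≠ 0 := div_ne_zero (neg_ne_zero.2 (mul_ne_zero H.zz hμ0)) h.c_ne
  refine ov.seed_false (γ := γ) (γ' := γ') (v := κ • z') ⟨H.gamma_ne, ?_, H'.gamma_ne, H'.gg, ?_, ?_, ?_⟩
  · simp [H.gg]
  · simp [H'.zg]
  · intro s hs
    have e := congrArg (fun w => B w z') hs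
    simp [H'.gz, hκ0, H'.zz] at e
  · intro g' hg'
    have : g' = g := mat_ext Q (mat_ext_ten fun x y => by
      rw [hg', eich_mulVec, hg, sh, add_mulVec, add_mulVec, one_mulVec, kron_mulVec_ten, kron_mulVec_ten,
        zero_mulVec, H.n2_apply, hC, CfsgLib.TensorSlice.ten_zero_right, tenB_apply, tenB_apply, h.polar, h.polar,
        h.aset.tset.quad _ _ (Or.inl (by simp [H.gg]))]
      simp only [map_smul, LinearMap.smul_apply, smul_eq_mul, sym H.fac γ x, sym H.fac γ' y, sym H.fac z' y,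
        ten_smul_left, ten_smul_right, CfsgLib.TensorSlice.ten_sub_right, smul_sub, smul_smul, zero_mul, zero_smul,
        sub_zero, add_zero]
      have := h.c_ne
      rw [hκ]
      match_scalars <;> field_simp)
    exact this ▸ hgM

/-- A non-trivial `1 + N² ⊗ C` leads to a seed. -/
theorem eq_zero_of_shape {g : Isom Q} (hgM : g ∈ M) {C : Matrix (Fin 3) (Fin 3) F}
    (hg : mat Q g = sh B γ z 0 C) : C = 0 := by
  by_contra hC0
  have h2 := H.two
  have hskew : ∀ y y', B (C *ᵥ y) y' = -B y (C *ᵥ y') := fun y y' => by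
    have e := (h.sh_rels H hg).2 y y'
    rw [zero_mulVec, zero_mulVec, map_zero] at e
    linear_combination e
  have hsw : ∀ y y', B (C *ᵥ y') y = -B (C *ᵥ y) y' := fun y y' => by
    rw [hskew y' y, sym H.fac y' (C *ᵥ y)]
  have hdiag : ∀ y, B (C *ᵥ y) y = 0 := fun y =>
    (mul_eq_zero.1 (show (2 : F) * B (C *ᵥ y) y = 0 by linear_combination hsw y y)).resolve_left h2
  have hzero : ∀ {γ' z' δ' : Fin 3 → F}, Hyp B γ' z' δ' → B (C *ᵥ γ') δ' = 0 → B (C *ᵥ γ') z' = 0 →
      B (C *ᵥ δ') z' = 0 → False := by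
    intro γ' z' δ' H' a b b'
    refine hC0 (Matrix.ext_iff_mulVec.2 fun y => ?_)
    have hall : ∀ e, (B (C *ᵥ γ') e = 0 → B (C *ᵥ z') e = 0 → B (C *ᵥ δ') e = 0 → B (C *ᵥ y) e = 0) := by
      intro e e1 e2 e3
      rw [H'.expand y, mulVec_add, mulVec_add, mulVec_smul, mulVec_smul, mulVec_smul]
      simp [e1, e2, e3]
    rw [zero_mulVec]
    exact H'.eq_zero (hall _ (hdiag _) (by rw [hsw, b, neg_zero]) (by rw [hsw, a, neg_zero]))
      (hall _ b (hdiag _) b') (hall _ a (by rw [hsw, b', neg_zero]) (hdiag _))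
  -- a kernel vector
  obtain ⟨w, hw0, hw⟩ : ∃ w, w ≠ 0 ∧ ∀ y, B (C *ᵥ w) y = 0 := by
    set a := B (C *ᵥ γ) δ with ha
    set b := B (C *ᵥ γ) z with hb
    set b' := B (C *ᵥ δ) z with hb'
    refine ⟨b' • γ + a • z - b • δ, fun h0 => ?_, fun y => ?_⟩
    · have e1 := congrArg (fun v => B v δ) h0
      have e2 := congrArg (fun v => B v z) h0
      have e3 := congrArg (fun v => B v γ) h0
      simp [H.gd, H.zd, H.dd, H.gz, H.dz, H.gg, H.zg, H.dg, H.zz] at e1 e2 e3
      exact hzero H e2 e3 e1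
    · rw [H.expand y]
      simp only [mulVec_sub, mulVec_add, mulVec_smul, map_add, map_sub, map_smul, LinearMap.add_apply,
        LinearMap.sub_apply, LinearMap.smul_apply, smul_eq_mul, hdiag, hsw γ z, hsw γ δ, hsw δ z, ← ha, ← hb, ← hb']
      ring
  have hCw : C *ᵥ w = 0 := H.fac.sep hw
  by_cases hww : B w w = 0
  · obtain ⟨z', δ', H'⟩ := exists_hyp_at H.fac hw0 hww
    refine ov.seed_of_shape H hgM hg H' (by simp [hCw]) (by simp [hCw]) fun h3 => ?_
    exact hzero H' (by simp [hCw]) (by simp [hCw]) h3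
  obtain ⟨γ', z', δ', H', hwγ, hwz⟩ := exists_hyp_perp H.fac hww
  have ha : B (C *ᵥ γ') δ' = 0 := by
    have e : B (C *ᵥ γ') w = 0 := by rw [hsw, hCw, map_zero, LinearMap.zero_apply, neg_zero]
    rw [H'.expand w] at e
    simpa [hdiag, hwz, hwγ] using e
  have hbb : B (C *ᵥ γ') z' ≠ 0 := fun hb => by
    refine hzero H' ha hb ?_
    have e : B (C *ᵥ z') w = 0 := by rw [hsw, hCw, map_zero, LinearMap.zero_apply, neg_zero]
    rw [H'.expand w] at e
    simpa [hdiag, hwz, hwγ, hsw γ' z', hb, hsw δ' z'] using e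
  -- the second difference along a root group
  set T := H'.eS 1 with hT
  have hTinv : mt T⁻¹ = mt (H'.eS (-1)) := by rw [hT, H'.eS_neg]
  set g₁ := h.kk (1, T) * g * (h.kk (1, T))⁻¹
  set g₂ := h.kk (1, T⁻¹) * g * (h.kk (1, T⁻¹))⁻¹
  have hM₁ : g₁ ∈ M := mul_mem (mul_mem (ov.right_mem (H'.eS_mem 1)) hgM) (inv_mem (ov.right_mem (H'.eS_mem 1)))
  have hM₂ : g₂ ∈ M := by
    have hT' : h.kk (1, T⁻¹) ∈ M := ov.right_mem (T := T⁻¹) (inv_mem (H'.eS_mem 1))
    exact mul_mem (mul_mem hT' hgM) (inv_mem hT')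
  set C'' := mt T * C * mt T⁻¹ + mt T⁻¹ * C * mt T⁻¹⁻¹ + -C + -C with hC''
  have hshape : mat Q (g₁ * g₂ * g⁻¹ * g⁻¹) = sh B γ z 0 C'' := by
    rw [mat_mul, mat_mul, mat_mul, h.sh_conj hg, h.sh_conj hg, h.sh_inv H hg]
    simp only [mul_zero, zero_mul, H.sh_mul, add_zero, hC'']
  have hωC : ∀ y y', B (C'' *ᵥ y) y' = B (C *ᵥ (mt (H'.eS (-1)) *ᵥ y)) (mt (H'.eS (-1)) *ᵥ y')
      + B (C *ᵥ (mt (H'.eS 1) *ᵥ y)) (mt (H'.eS 1) *ᵥ y') - 2 * B (C *ᵥ y) y' := fun y y' => by
    simp only [hC'', add_mulVec, neg_mulVec, map_add, map_neg, LinearMap.add_apply, LinearMap.neg_apply,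
      ← mulVec_mulVec, inv_inv]
    rw [← value_mulVec H.fac T⁻¹ (mt T *ᵥ _) y', ← value_mulVec H.fac T (mt T⁻¹ *ᵥ _) y', mt_inv_mulVec,
      mt_mulVec_inv, hTinv, hT]
    ring
  refine ov.seed_of_shape H (mul_mem (mul_mem (mul_mem hM₁ hM₂) (inv_mem hgM)) (inv_mem hgM)) hshape H' ?_ ?_ ?_
  · rw [hωC, H'.eS_gamma, H'.eS_gamma, H'.eS_delta, H'.eS_delta]
    simp only [map_add, map_sub, map_smul, smul_eq_mul, hdiag, ha]
    ring
  · rw [hωC, H'.eS_gamma, H'.eS_gamma, H'.eS_z, H'.eS_z]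
    simp only [map_sub, map_smul, smul_eq_mul, hdiag]
    ring
  · have e : B (C'' *ᵥ δ') z' = B z' z' * B (C *ᵥ γ') z' := by
      rw [hωC, H'.eS_delta, H'.eS_delta, H'.eS_z, H'.eS_z]
      simp only [mulVec_add, mulVec_sub, mulVec_smul, map_add, map_sub, map_smul, LinearMap.add_apply,
        LinearMap.sub_apply, LinearMap.smul_apply, smul_eq_mul, hdiag, hsw γ' z', hsw γ' δ', ha]
      field_simp
      ring
    rw [e]
    exact mul_ne_zero H'.zz hbb

/-- All right conjugates of `A` commute with it. -/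
theorem commute_conj {g : Isom Q} (hgM : g ∈ M) {A C : Matrix (Fin 3) (Fin 3) F}
    (hg : mat Q g = sh B γ z A C) {T : isoG B} (hT : T.1 ∈ fgrp B 1) :
    A * (mt T * A * mt T⁻¹) = mt T * A * mt T⁻¹ * A := by
  set A' := mt T * A * mt T⁻¹
  set C' := mt T * C * mt T⁻¹
  set g' := h.kk (1, T) * g * (h.kk (1, T))⁻¹
  have hg'M : g' ∈ M := mul_mem (mul_mem (ov.right_mem hT) hgM) (inv_mem (ov.right_mem hT))
  have hg' : mat Q g' = sh B γ z A' C' := h.sh_conj hg T
  have e : mat Q (g * g' * (g' * g)⁻¹) = sh B γ z 0 (A * A' - A' * A) := by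
    have e1 : mat Q (g * g') = sh B γ z 0 (A * A' - A' * A) * mat Q (g' * g) := by
      rw [mat_mul Q g g', mat_mul Q g' g, hg, hg', H.sh_mul, H.sh_mul, H.sh_mul, zero_add, zero_mul, add_zero, add_comm A' A]
      congr 1
      abel
    rw [mat_mul, e1, mul_assoc, ← mat_mul, mul_inv_cancel, mat_one, mul_one]
  exact sub_eq_zero.1 (ov.eq_zero_of_shape H (mul_mem (mul_mem hgM hg'M) (inv_mem (mul_mem hg'M hgM))) e)

omit ov H in
theorem exists_param (hq : 5 ≤ Fintype.card F) : ∃ s : F, s ≠ 0 ∧ s * s ≠ 1 := by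
  classical
  by_contra! hcon
  have hsub : (Finset.univ : Finset F) ⊆ {0, 1, -1} := fun s _ => by
    by_cases h0 : s = 0
    · simp [h0]
    · rcases mul_self_eq_one_iff.1 (hcon s h0) with h1 | h1 <;> simp [h1]
  have := (Finset.card_le_card hsub).trans Finset.card_le_three
  rw [Finset.card_univ] at this
  omega

/-- `A` vanishes. -/
theorem linear_part_zero {g : Isom Q} (hgM : g ∈ M) {A C : Matrix (Fin 3) (Fin 3) F}
    (hg : mat Q g = sh B γ z A C) {k : Fin 3 → F} (hk : B k k ≠ 0) (hAk : A *ᵥ k = 0) : A = 0 := by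
  by_contra hA0
  have h2 := H.two
  have hself := (h.sh_rels H hg).1
  have hk0 : k ≠ 0 := fun h' => hk (by simp [h'])
  obtain ⟨s, hs0, hs1⟩ := Ovg.exists_param (F := F) ov.card
  by_cases hker : ∀ v, A *ᵥ v = 0 → ∃ r : F, v = r • k
  · -- `A` has eigenvectors along the orbit of `k`
    obtain ⟨γ', z', δ', H', hkγ⟩ := exists_hyp_pairing H.fac hk0
    set n₁ := nM B γ' z' *ᵥ k with hn₁
    set n₂ := nM B γ' z' *ᵥ n₁ with hn₂
    have hn₂' : nM B γ' z' *ᵥ n₂ = 0 := by
      rw [hn₂, hn₁, mulVec_mulVec, mulVec_mulVec, H'.n_cube, zero_mulVec]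
    have hn₂0 : n₂ ≠ 0 := by
      rw [hn₂, hn₁, mulVec_mulVec, H'.n2_apply, smul_ne_zero_iff]
      exact ⟨neg_ne_zero.2 (mul_ne_zero H'.zz hkγ), H'.gamma_ne⟩
    have hind : ∀ p q r : F, p • k + q • n₁ + r • n₂ = 0 → p = 0 ∧ q = 0 ∧ r = 0 := by
      intro p q r e
      have e1 := congrArg (nM B γ' z' *ᵥ ·) e
      simp only [mulVec_add, mulVec_smul, ← hn₁, ← hn₂, hn₂', smul_zero, add_zero, mulVec_zero] at e1
      have e2 := congrArg (nM B γ' z' *ᵥ ·) e1
      simp only [mulVec_add, mulVec_smul, ← hn₂, hn₂', smul_zero, add_zero, mulVec_zero, smul_eq_zero, hn₂0,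
        or_false] at e2
      subst e2
      simp only [zero_smul, zero_add, smul_eq_zero, hn₂0, or_false] at e1
      subst e1
      simp only [zero_smul, zero_add, smul_eq_zero, hn₂0, or_false] at e
      exact ⟨rfl, rfl, e⟩
    have hv : ∀ t : F, mt (H'.eS t) *ᵥ k = k + t • n₁ + (t * t / 2) • n₂ := fun t => by
      rw [H'.eS_mat, add_mulVec, add_mulVec, one_mulVec, smul_mulVec, smul_mulVec, ← mulVec_mulVec, hn₁, hn₂, hn₁]
    have heig : ∀ t : F, ∃ l : F, A *ᵥ (k + t • n₁ + (t * t / 2) • n₂) = l • (k + t • n₁ + (t * t / 2) • n₂) := by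
      intro t
      set T := H'.eS (-t) with hT
      have hc := congrArg (· *ᵥ k) (ov.commute_conj H hgM hg (H'.eS_mem (-t)))
      simp only [← mulVec_mulVec, hAk, mulVec_zero, ← hT] at hc
      obtain ⟨r, hr⟩ := hker _ hc
      refine ⟨r, ?_⟩
      rw [← hv]
      have h' := congrArg (mt T⁻¹ *ᵥ ·) hr
      simp only [mt_inv_mulVec, mulVec_smul] at h'
      rwa [hT, H'.eS_neg, neg_neg] at h'
    obtain ⟨l₁, e₁⟩ := heig 1
    obtain ⟨l₂, e₂⟩ := heig (-1)
    obtain ⟨l, e⟩ := heig s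
    have hcomb : k + s • n₁ + (s * s / 2) • n₂ = (1 - s * s) • k + ((s + s * s) / 2) • (k + (1 : F) • n₁ +
        ((1 : F) * 1 / 2) • n₂) + ((s * s - s) / 2) • (k + (-1 : F) • n₁ + ((-1 : F) * -1 / 2) • n₂) := by
      match_scalars <;> field_simp <;> ring
    have e' := e
    conv_lhs at e' => rw [hcomb]
    rw [mulVec_add, mulVec_add, mulVec_smul, mulVec_smul, mulVec_smul, hAk, smul_zero, zero_add, e₁, e₂] at e'
    set β := (s + s * s) / 2 * l₁ with hβ
    set β' := (s * s - s) / 2 * l₂ with hβ'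
    obtain ⟨p0, p1, p2⟩ := hind (β + β' - l) (β - β' - s * l) ((β + β' - s * s * l) / 2) (by
      rw [smul_smul, smul_smul, ← hβ, ← hβ'] at e'
      linear_combination (norm := skip) e'
      match_scalars <;> field_simp <;> ring)
    have p2' : β + β' - s * s * l = 0 := (div_eq_zero_iff.1 p2).resolve_right h2
    have hl : l = 0 := (mul_eq_zero.1 (show (1 - s * s) * l = 0 by linear_combination p2' - p0)).resolve_left
      (fun h' => hs1 (by linear_combination -h'))
    subst hl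
    have hb : β = 0 := (mul_eq_zero.1 (show 2 * β = 0 by linear_combination p0 + p1)).resolve_left h2
    have hb' : β' = 0 := by linear_combination p0 - hb
    have hl₁ : l₁ = 0 := (mul_eq_zero.1 hb).resolve_left (div_ne_zero (fun h' => by
      rcases mul_eq_zero.1 (show s * (1 + s) = 0 by linear_combination h') with h'' | h''
      · exact hs0 h''
      · exact hs1 (by linear_combination (s - 1) * h'')) h2)
    have hl₂ : l₂ = 0 := (mul_eq_zero.1 hb').resolve_left (div_ne_zero (fun h' => by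
      rcases mul_eq_zero.1 (show s * (s - 1) = 0 by linear_combination h') with h'' | h''
      · exact hs0 h''
      · exact hs1 (by linear_combination (s + 1) * h'')) h2)
    simp only [hl₁, hl₂, zero_smul, mulVec_add, mulVec_smul, hAk, zero_add] at e₁ e₂
    have hn1 : A *ᵥ n₁ = 0 := by
      have : (2 : F) • A *ᵥ n₁ = 0 := by linear_combination (norm := module) e₁ - e₂
      exact (smul_eq_zero.1 this).resolve_left h2
    have hn2 : A *ᵥ n₂ = 0 := by
      rw [hn1, smul_zero, zero_add, smul_eq_zero] at e₁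
      exact e₁.resolve_left (div_ne_zero (mul_ne_zero one_ne_zero one_ne_zero) h2)
    refine hA0 (Matrix.ext_iff_mulVec.2 fun x => ?_)
    have hli : LinearIndependent F ![k, n₁, n₂] := by
      rw [Fintype.linearIndependent_iff]
      intro g hg
      simp only [Fin.sum_univ_three, Matrix.cons_val_zero, Matrix.cons_val_one, Matrix.cons_val] at hg
      obtain ⟨a, b, d⟩ := hind _ _ _ hg
      intro i
      fin_cases i <;> assumption
    rw [zero_mulVec]
    exact LinearMap.congr_fun (ext_of_indep hli (f := Matrix.mulVecLin A) (g := 0) fun i => by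
      fin_cases i <;> simp [hAk, hn1, hn2]) x
  · -- `A` has rank one
    push Not at hker
    obtain ⟨v, hAv, hv⟩ := hker
    obtain ⟨y₀, hy₀⟩ : ∃ y, A *ᵥ y ≠ 0 := by
      by_contra! hc
      exact hA0 (Matrix.ext_iff_mulVec.2 fun y => by rw [hc, zero_mulVec])
    set e := A *ᵥ y₀ with he
    set W : Submodule F (Fin 3 → F) := Submodule.span F (Set.range ![k, v]) with hW
    have hWfr : finrank F W = 2 := by
      rw [hW, finrank_span_eq_card, Fintype.card_fin]
      exact (LinearIndependent.pair_iff' hk0).2 fun r hr => hv r hr.symm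
    have hmem : ∀ y, A *ᵥ y ∈ B.orthogonal W := fun y w hw => by
      show B w (A *ᵥ y) = 0
      rw [← hself]
      have hAw : A *ᵥ w = 0 := by
        refine Submodule.span_induction (p := fun w _ => A *ᵥ w = 0) ?_ (mulVec_zero _)
          (fun a b _ _ ha hb => by rw [mulVec_add, ha, hb, add_zero]) (fun r a _ ha => by
            rw [mulVec_smul, ha, smul_zero]) hw
        rintro _ ⟨i, rfl⟩
        fin_cases i <;> simpa
      rw [hAw, map_zero, LinearMap.zero_apply]
    have hspan : Submodule.span F {e} = B.orthogonal W := by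
      refine Submodule.eq_of_le_of_finrank_le ((Submodule.span_singleton_le_iff_mem _ _).2 (hmem y₀)) ?_
      rw [H.fac.finrank_orth, hWfr, finrank_span_singleton hy₀]
    obtain ⟨w, hw⟩ := H.fac.exists_one hy₀
    have hA : ∀ y, A *ᵥ y = (B (A *ᵥ w) w * B y e) • e := fun y => by
      have hp : ∀ y, A *ᵥ y = B (A *ᵥ y) w • e := fun y => by
        obtain ⟨r, hr⟩ := Submodule.mem_span_singleton.1 (hspan ▸ hmem y : A *ᵥ y ∈ Submodule.span F {e})
        rw [← hr, map_smul, LinearMap.smul_apply, smul_eq_mul, sym H.fac e w, hw, mul_one]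
      rw [hp y, hself]
      congr 1
      conv_lhs => rw [hp w]
      rw [map_smul, smul_eq_mul]
    set lam := B (A *ᵥ w) w with hlam
    have hlam0 : lam ≠ 0 := fun h0 => hy₀ (by rw [he, hA, h0, zero_mul, zero_smul])
    obtain ⟨γ', z', δ', H', heγ⟩ := exists_hyp_pairing H.fac hy₀
    set n₁ := nM B γ' z' *ᵥ e with hn₁
    set n₂ := nM B γ' z' *ᵥ n₁ with hn₂
    have hn₂0 : n₂ ≠ 0 := by
      rw [hn₂, hn₁, mulVec_mulVec, H'.n2_apply, smul_ne_zero_iff]
      exact ⟨neg_ne_zero.2 (mul_ne_zero H'.zz heγ), H'.gamma_ne⟩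
    have hn₂' : nM B γ' z' *ᵥ n₂ = 0 := by
      rw [hn₂, hn₁, mulVec_mulVec, mulVec_mulVec, H'.n_cube, zero_mulVec]
    have hval : ∀ t : F, B e (mt (H'.eS t) *ᵥ e) = B e e - t * t / 2 * (B z' z' * (B e γ' * B e γ')) := fun t => by
      rw [H'.eS_mat, add_mulVec, add_mulVec, one_mulVec, smul_mulVec, smul_mulVec, H'.n2_apply, nM_apply]
      simp only [map_add, map_sub, map_smul, smul_eq_mul]
      ring
    obtain ⟨t, ht0, ht⟩ : ∃ t : F, t ≠ 0 ∧ B e (mt (H'.eS t) *ᵥ e) ≠ 0 := by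
      by_contra! hc
      have e1 := hc 1 one_ne_zero
      have e2 := hc s hs0
      rw [hval] at e1 e2
      field_simp at e1 e2
      have : (1 - s * s) * (B z' z' * (B e γ' * B e γ')) = 0 := by linear_combination e2 - e1
      rcases mul_eq_zero.1 this with h' | h'
      · exact hs1 (by linear_combination -h')
      · exact mul_ne_zero H'.zz (mul_ne_zero heγ heγ) h'
    set T := H'.eS t with hT
    set e' := mt T *ᵥ e with he'
    have hA' : ∀ y, (mt T * A * mt T⁻¹) *ᵥ y = (lam * B y e') • e' := fun y => by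
      rw [← mulVec_mulVec, ← mulVec_mulVec, hA, mulVec_smul, he']
      conv_rhs => rw [← mt_mulVec_inv T y, value_mulVec H.fac]
    have he'0 : e' ≠ 0 := fun h0 => ht (by rw [h0, map_zero])
    obtain ⟨y, hy⟩ := H.fac.exists_one he'0
    have hc := congrArg (· *ᵥ y) (ov.commute_conj H hgM hg (H'.eS_mem t))
    simp only [← hT, ← mulVec_mulVec] at hc
    rw [show mt T *ᵥ (A *ᵥ (mt T⁻¹ *ᵥ y)) = (mt T * A * mt T⁻¹) *ᵥ y by rw [← mulVec_mulVec, ← mulVec_mulVec],
      show mt T *ᵥ (A *ᵥ (mt T⁻¹ *ᵥ (A *ᵥ y))) = (mt T * A * mt T⁻¹) *ᵥ (A *ᵥ y) by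
        rw [← mulVec_mulVec, ← mulVec_mulVec], hA', hA' (A *ᵥ y), hA y, mulVec_smul, hA e', hy, map_smul,
      LinearMap.smul_apply, smul_eq_mul, sym H.fac e' e, smul_smul] at hc
    have h3 : e = B y e • e' := by
      refine smul_right_injective _ (mul_ne_zero (mul_ne_zero hlam0 hlam0) ht) ?_
      show (lam * lam * B e e') • e = (lam * lam * B e e') • B y e • e'
      rw [smul_smul]
      convert hc using 2 <;> ring
    have h4 : B e' γ' = B e γ' := by
      rw [he', ← value_mulVec H.fac T e γ', hT, H'.eS_gamma]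
    have h5 : B y e = 1 := by
      have := congrArg (fun w => B w γ') h3
      simp only [map_smul, LinearMap.smul_apply, smul_eq_mul, h4] at this
      exact mul_right_cancel₀ heγ (by linear_combination -this)
    rw [h5, one_smul, he', hT, H'.eS_mat, add_mulVec, add_mulVec, one_mulVec, smul_mulVec, smul_mulVec,
      ← mulVec_mulVec, ← hn₁, ← hn₂, eq_comm, add_assoc, add_eq_left] at h3
    have h6 := congrArg (nM B γ' z' *ᵥ ·) h3
    simp only [mulVec_add, mulVec_smul, ← hn₂, hn₂', smul_zero, add_zero, mulVec_zero, smul_eq_zero] at h6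
    exact h6.elim ht0 hn₂0

/-- Such an element is trivial. -/
theorem shape_trivial {g : Isom Q} (hgM : g ∈ M) {A C : Matrix (Fin 3) (Fin 3) F}
    (hg : mat Q g = sh B γ z A C) {k : Fin 3 → F} (hk : B k k ≠ 0) (hAk : A *ᵥ k = 0) : g = 1 := by
  obtain rfl := ov.linear_part_zero H hgM hg hk hAk
  obtain rfl := ov.eq_zero_of_shape H hgM hg
  exact mat_ext Q (by rw [hg, H.sh_zero, mat_one])

end Ovg

end CfsgLib.OrthNineTensor
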